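import Cfsg.Agent.Lib.ShultGross.Module
import Cfsg.Agent.Lib.Solvable.Coprime
import Cfsg.Agent.Lib.Solvable.Fitting
import Cfsg.Agent.Lib.Solvable.NilpotentFrattini
import Cfsg.Agent.Lib.Transfer.PGroup
import Cfsg.Agent.S0031

/-! The theorem of Shult and Gross. -/

set_option autoImplicit false
open scoped commutatorElement

universe u

namespace Cfsg.Agent.ShultGross

theorem map_eq_of_mem {G : Type*} [Group G] [Finite G] (σ : MulAut G) (N : Subgroup G)
    (h : ∀ t ∈ N, σ t ∈ N) : N.map σ.toMonoidHom = N := by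
  refine Subgroup.eq_of_le_of_card_ge ?_ ?_
  · rintro _ ⟨z, hz, rfl⟩; exact h z hz
  · rw [Subgroup.card_map_of_injective σ.injective]

theorem exists_res {G : Type*} [Group G] [Finite G] (σ : MulAut G) (N : Subgroup G)
    (h : ∀ t ∈ N, σ t ∈ N) :
    ∃ τ : MulAut N, (∀ t : N, ((τ t : N) : G) = σ t) ∧
      ∀ (k : ℕ) (t : N), (((τ ^ k) t : N) : G) = (σ ^ k) t := by
  refine ⟨MulEquiv.ofBijective ((σ.toMonoidHom.comp N.subtype).codRestrict N fun s => h s s.2)
    (Finite.injective_iff_bijective.1 fun a b hab => Subtype.ext (σ.injective (congrArg Subtype.val hab))),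
    fun t => rfl, ?_⟩
  intro k
  induction k with
  | zero => simp
  | succ k ih =>
    intro t
    rw [pow_succ', MulAut.mul_apply, pow_succ', MulAut.mul_apply, ← ih]
    rfl

theorem exists_quot {G : Type*} [Group G] [Finite G] (σ : MulAut G) (N : Subgroup G) [N.Normal]
    (h : ∀ t ∈ N, σ t ∈ N) :
    ∃ τ : MulAut (G ⧸ N), (∀ t : G, τ (t : G ⧸ N) = ((σ t : G) : G ⧸ N)) ∧
      ∀ (k : ℕ) (t : G), (τ ^ k) (t : G ⧸ N) = (((σ ^ k) t : G) : G ⧸ N) := by
  refine ⟨QuotientGroup.congr N N σ (map_eq_of_mem σ N h), fun t => rfl, ?_⟩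
  intro k
  induction k with
  | zero => simp
  | succ k ih => intro t; rw [pow_succ', MulAut.mul_apply, ih, pow_succ', MulAut.mul_apply]; rfl

theorem quot_fpf {G : Type*} [Group G] [Finite G] (σ : MulAut G) (hfpf : ∀ t, σ t = t → t = 1)
    (N : Subgroup G) [N.Normal] (h : ∀ t ∈ N, σ t ∈ N) (τ : MulAut (G ⧸ N))
    (hτ : ∀ t : G, τ (t : G ⧸ N) = ((σ t : G) : G ⧸ N)) (x : G ⧸ N) (hx : τ x = x) : x = 1 := by
  obtain ⟨s, rfl⟩ := QuotientGroup.mk_surjective x
  rw [hτ] at hx
  refine (QuotientGroup.eq_one_iff s).2 (mem_of_moved_mem σ hfpf N h ?_)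
  have h4 := (inferInstance : N.Normal).conj_mem _ (QuotientGroup.eq.1 hx.symm) s
  rwa [mul_inv_cancel_left] at h4

theorem mem_char {G : Type*} [Group G] (σ : MulAut G) {N : Subgroup G} (hN : N.Characteristic)
    {t : G} (ht : t ∈ N) : σ t ∈ N :=
  (Subgroup.characteristic_iff_map_le.1 hN σ) ⟨t, ht, rfl⟩

theorem coprime_card {G : Type*} [Group G] [Finite G] {p n : ℕ} (hp : p.Prime) (σ : MulAut G)
    (hσ : σ ^ p ^ n = 1) (hfpf : ∀ t, σ t = t → t = 1) : (Nat.card G).Coprime p := by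
  haveI := Fact.mk hp
  have hP : IsPGroup p (Subgroup.zpowers σ) := by
    obtain ⟨i, -, hi⟩ := (Nat.dvd_prime_pow hp).1 (orderOf_dvd_of_pow_eq_one hσ)
    exact IsPGroup.of_card (n := i) (by rw [Nat.card_zpowers, hi])
  have h := hP.card_modEq_card_fixedPoints G
  have h1 : MulAction.fixedPoints (Subgroup.zpowers σ) G = {1} := by
    ext g
    simp only [MulAction.mem_fixedPoints, Set.mem_singleton_iff]
    refine ⟨fun hg => hfpf g (hg ⟨σ, Subgroup.mem_zpowers σ⟩), fun hg a => ?_⟩
    rw [hg]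
    exact map_one (a : MulAut G)
  rw [h1, Nat.card_coe_set_eq, Set.ncard_singleton] at h
  exact (hp.coprime_iff_not_dvd.2 fun hd => by
    have := (Nat.ModEq.trans h.symm (Nat.modEq_zero_iff_dvd.2 hd))
    exact hp.not_dvd_one (Nat.modEq_zero_iff_dvd.1 this)).symm

/-- A `q`-subgroup normalised by the operator acts on `O_ℓ` as the top power commutes. -/
theorem top_centralizes {G : Type u} [Group G] [Finite G] {p q ℓ n : ℕ} (hp : p.Prime) (hp2 : p ≠ 2)
    (hq : q.Prime) (hqp : q ≠ p) (hℓ : ℓ.Prime) (hℓp : ℓ ≠ p) (hℓq : ℓ ≠ q) (hn : 1 ≤ n)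
    (σ : MulAut G) (hσ : σ ^ p ^ n = 1) (hfpf : ∀ t, σ t = t → t = 1) (Q : Subgroup G)
    (hQ : IsPGroup q Q) (hQinv : ∀ t ∈ Q, σ t ∈ Q) {t : G} (ht : t ∈ Q) :
    t⁻¹ * (σ ^ p ^ (n - 1)) t ∈ Subgroup.centralizer ((Cfsg.pCore ℓ G : Subgroup G) : Set G) := by
  classical
  haveI := Fact.mk hℓ
  haveI := Fact.mk hq
  haveI := Fact.mk hp
  set P := Cfsg.pCore ℓ G with hPdef
  haveI : P.Normal := FittingCores.pCore_normal ℓ
  have hP : IsPGroup ℓ P := FittingCores.pCore_isPGroup ℓ
  have hPinv : ∀ t ∈ P, σ t ∈ P := fun t ht => mem_char σ (FittingCores.pCore_characteristic ℓ) ht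
  obtain ⟨σP, hσP, hσPk⟩ := exists_res σ P hPinv
  obtain ⟨σQ, hσQ, hσQk⟩ := exists_res σ Q hQinv
  haveI : Group.IsNilpotent P := hP.isNilpotent
  letI instC : CommGroup (P ⧸ frattini P) :=
    { (inferInstance : Group (P ⧸ frattini P)) with
      mul_comm := fun x y => by
        obtain ⟨x, rfl⟩ := QuotientGroup.mk_surjective x
        obtain ⟨y, rfl⟩ := QuotientGroup.mk_surjective y
        rw [← commutatorElement_eq_one_iff_mul_comm, ← QuotientGroup.coe_mk' (frattini P),
          ← map_commutatorElement]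
        exact (QuotientGroup.eq_one_iff _).2 (SolvStruct.commutator_le_frattini _
          (Subgroup.commutator_mem_commutator (Subgroup.mem_top x) (Subgroup.mem_top y))) }
  letI instM : Module (ZMod ℓ) (Additive (P ⧸ frattini P)) := AddCommGroup.zmodModule fun v => by
    obtain ⟨x, hx⟩ := QuotientGroup.mk_surjective (Additive.toMul v)
    change Additive.ofMul ((Additive.toMul v) ^ ℓ) = 0
    rw [← hx, ← QuotientGroup.mk_pow,
      (QuotientGroup.eq_one_iff _).2 (PGroupBasics.pow_mem_frattini hP x)]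
    rfl
  have hΦ : ∀ φ : MulAut P, (frattini P).map φ.toMonoidHom = frattini P := fun φ =>
    Subgroup.characteristic_iff_map_eq.1 inferInstance φ
  let act : MulAut P →* MulAut (P ⧸ frattini P) :=
    { toFun := fun φ => QuotientGroup.congr (frattini P) (frattini P) φ (hΦ φ)
      map_one' := MulEquiv.ext fun x => by
        obtain ⟨x, rfl⟩ := QuotientGroup.mk_surjective x
        rfl
      map_mul' := fun φ ψ => MulEquiv.ext fun x => by
        obtain ⟨x, rfl⟩ := QuotientGroup.mk_surjective x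
        rfl }
  let β : Q →* MulAut (P ⧸ frattini P) := act.comp ((MulAut.conjNormal (H := P)).comp Q.subtype)
  have hσPn : σP ^ p ^ n = 1 := MulEquiv.ext fun x => Subtype.ext (by rw [hσPk, hσ]; rfl)
  have hσQn : σQ ^ p ^ n = 1 := MulEquiv.ext fun x => Subtype.ext (by rw [hσQk, hσ]; rfl)
  have hα : (act σP) ^ p ^ n = 1 := by rw [← map_pow, hσPn, map_one]
  have hαfix : ∀ w, act σP w = w → w = 1 := fun w hw => by
    refine quot_fpf σP (fun x hx => Subtype.ext (hfpf _ ((hσP x).symm.trans (congrArg Subtype.val hx))))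
      (frattini P) (fun x hx => mem_char σP inferInstance hx) (act σP) (fun x => rfl) w hw
  have hαconj : ∀ s, act σP * β s = β (σQ s) * act σP := fun s => by
    change act σP * act _ = act _ * act σP
    rw [← map_mul, ← map_mul]
    refine congrArg act (MulEquiv.ext fun x => Subtype.ext ?_)
    simp only [MulAut.mul_apply, MonoidHom.comp_apply, Subgroup.coe_subtype, MulAut.conjNormal_apply,
      hσP, hσQ, map_mul, map_inv]
  obtain ⟨K, iF, iA, iC, U, iU1, iU2, iU3, τ, T, hker, hT, hsum, hconj⟩ :=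
    CoprimeFree.linearise (p := ℓ) (r := p ^ n) (P ⧸ frattini P) (act σP) β σQ hα hαfix hαconj
  have h := trivial_top_power (K := K) (V := U) hp hp2 hq hqp hn
    (CoprimeFree.natCast_ne_zero (p := ℓ) hq hℓq) (CoprimeFree.natCast_ne_zero (p := ℓ) hp hℓp)
    (Nat.card Q) le_rfl hQ σQ hσQn
    (fun x hx => Subtype.ext (hfpf _ ((hσQ x).symm.trans (congrArg Subtype.val hx))))
    τ T hT hsum hconj ⟨t, ht⟩
  set tQ : Q := ⟨t, ht⟩ with htQ
  set wQ : Q := tQ⁻¹ * (σQ ^ p ^ (n - 1)) tQ with hwQ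
  have hβw : β wQ = 1 := by rw [hwQ, map_mul, map_inv, hker _ _ h, inv_mul_cancel]
  have hwval : (wQ : G) = t⁻¹ * (σ ^ p ^ (n - 1)) t := by
    rw [hwQ, Subgroup.coe_mul, Subgroup.coe_inv, hσQk]
  rw [← hwval]
  have hle : Subgroup.zpowers (wQ : G) ≤ Subgroup.centralizer (P : Set G) := by
    refine CoprimeAct.le_centralizer_of_frattini ?_ ?_ fun c hc k hk => ?_
    · rw [Subgroup.normalizer_eq_top]; exact le_top
    · obtain ⟨i, hi⟩ := (hQ.to_le (Subgroup.zpowers_le.2 wQ.2)).exists_card_eq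
      obtain ⟨j, hj⟩ := (hP.to_subgroup (frattini P)).exists_card_eq
      rw [hi, hj]
      exact Nat.coprime_pow_primes i j hq hℓ hℓq.symm
    · obtain ⟨m, rfl⟩ := Subgroup.mem_zpowers_iff.1 hc
      have h1 : β (wQ ^ m) = 1 := by rw [map_zpow, hβw, one_zpow]
      have h2 := congrArg (fun F : MulAut (P ⧸ frattini P) => F ((⟨k, hk⟩ : P) : P ⧸ frattini P)) h1
      refine ⟨MulAut.conjNormal ((wQ ^ m : Q) : G) ⟨k, hk⟩ * (⟨k, hk⟩ : P)⁻¹, ?_, ?_⟩
      · rw [SetLike.mem_coe, ← QuotientGroup.eq_one_iff, QuotientGroup.mk_mul, QuotientGroup.mk_inv,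
          mul_inv_eq_one]
        exact h2
      · rw [Subgroup.coe_subtype, Subgroup.coe_mul, Subgroup.coe_inv, MulAut.conjNormal_apply,
          Subgroup.coe_zpow]
  exact hle (Subgroup.mem_zpowers _)

/-- The top power of the operator is trivial modulo the Fitting subgroup. -/
theorem top_mem_fitting {p n : ℕ} (hp : p.Prime) (hp2 : p ≠ 2) (hn : 1 ≤ n) :
    ∀ (N : ℕ) {G : Type u} [Group G] [Finite G], Nat.card G ≤ N → Group.IsSolvable G →
      ∀ (σ : MulAut G), σ ^ p ^ n = 1 → (∀ t, σ t = t → t = 1) →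
      ∀ t : G, t⁻¹ * (σ ^ p ^ (n - 1)) t ∈ Cfsg.fittingSubgroup G := by
  classical
  intro N
  induction N with
  | zero =>
    intro G _ _ hc
    exact absurd hc (not_le.2 Nat.card_pos)
  | succ N ih =>
    intro G _ _ hc hG σ hσ hfpf t
    haveI := hG
    set F := Cfsg.fittingSubgroup G with hF
    haveI : F.Normal := FittingCores.fitting_normal
    let S : Subgroup G :=
      { carrier := {t | t⁻¹ * (σ ^ p ^ (n - 1)) t ∈ F}
        one_mem' := by simp
        mul_mem' := fun {a b} ha hb => by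
          change (a * b)⁻¹ * (σ ^ p ^ (n - 1)) (a * b) ∈ F
          rw [map_mul, mul_inv_rev, show b⁻¹ * a⁻¹ * ((σ ^ p ^ (n - 1)) a * (σ ^ p ^ (n - 1)) b) =
            b⁻¹ * (a⁻¹ * (σ ^ p ^ (n - 1)) a) * b⁻¹⁻¹ * (b⁻¹ * (σ ^ p ^ (n - 1)) b) by group]
          exact F.mul_mem ((inferInstance : F.Normal).conj_mem _ ha b⁻¹) hb
        inv_mem' := fun {a} ha => by
          change a⁻¹⁻¹ * (σ ^ p ^ (n - 1)) a⁻¹ ∈ F
          rw [map_inv, show a⁻¹⁻¹ * ((σ ^ p ^ (n - 1)) a)⁻¹ =
            a * (a⁻¹ * (σ ^ p ^ (n - 1)) a)⁻¹ * a⁻¹ by group]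
          exact (inferInstance : F.Normal).conj_mem _ (F.inv_mem ha) a }
    suffices hS : S = ⊤ from (hS ▸ Subgroup.mem_top t : t ∈ S)
    refine FittingCores.eq_top_of_forall_sylow_le fun q hq => ?_
    haveI := Fact.mk hq
    obtain ⟨P, hP⟩ := Cfsg.Agent.S0031.result σ (fun g hg => hfpf g hg) q
    refine ⟨P, fun s hs => ?_⟩
    have hinv : ∀ x ∈ (P : Subgroup G), σ x ∈ (P : Subgroup G) := fun x hx =>
      hP.le ⟨x, hx, rfl⟩
    change s⁻¹ * (σ ^ p ^ (n - 1)) s ∈ F
    by_cases hqp : q = p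
    · subst hqp
      have h1 : s = 1 := by
        obtain ⟨k, hk⟩ := P.isPGroup'.exists_card_eq
        have hd : orderOf s ∣ q ^ k := hk ▸ Subgroup.orderOf_dvd_natCard _ hs
        exact orderOf_eq_one_iff.1 (Nat.Coprime.eq_one_of_dvd
          ((((coprime_card hp σ hσ hfpf).pow_right k)).coprime_dvd_left (orderOf_dvd_natCard s)) hd)
      rw [h1, map_one, inv_one, one_mul]
      exact F.one_mem
    set w := s⁻¹ * (σ ^ p ^ (n - 1)) s with hw
    have hwP : w ∈ (P : Subgroup G) := by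
      refine Subgroup.mul_mem _ (Subgroup.inv_mem _ hs) ?_
      clear hw w
      induction p ^ (n - 1) with
      | zero => simpa using hs
      | succ i ihi => rw [pow_succ', MulAut.mul_apply]; exact hinv _ ihi
    have hwq : ∃ k, orderOf w = q ^ k := by
      obtain ⟨k, hk⟩ := P.isPGroup'.exists_card_eq
      obtain ⟨i, -, hi⟩ := (Nat.dvd_prime_pow hq).1 (hk ▸ Subgroup.orderOf_dvd_natCard _ hwP)
      exact ⟨i, hi⟩
    obtain ⟨k, hk⟩ := hwq
    have hcopfit : ∀ {H : Type u} [Group H] [Finite H], Cfsg.pCore q H = ⊥ →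
        (Nat.card (Cfsg.fittingSubgroup H)).Coprime q := fun {H} _ _ hO => by
      have h := FittingCores.fitting_le_pCore_sup_pPrimeCore (G := H) hq
      rw [hO, bot_sup_eq] at h
      exact (FittingCores.pPrimeCore_coprime q).coprime_dvd_left (Subgroup.card_dvd_of_le h)
    by_cases hO : Cfsg.pCore q G = ⊥
    · -- centralising the other cores
      have hcen : w ∈ Subgroup.centralizer (F : Set G) := by
        have hle : F ≤ Subgroup.centralizer ({w} : Set G) := by
          rw [hF, FittingCores.fitting_eq_iSup_pCore]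
          refine iSup_le fun ⟨ℓ, hℓ⟩ => ?_
          haveI := Fact.mk hℓ
          by_cases hℓq : ℓ = q
          · subst hℓq; rw [hO]; exact bot_le
          by_cases hℓp : ℓ = p
          · subst hℓp
            intro x hx
            obtain ⟨i, hi⟩ := (FittingCores.pCore_isPGroup (G := G) ℓ).exists_card_eq
            have hd : orderOf x ∣ ℓ ^ i := hi ▸ Subgroup.orderOf_dvd_natCard _ hx
            rw [orderOf_eq_one_iff.1 (Nat.Coprime.eq_one_of_dvd
              ((((coprime_card hp σ hσ hfpf).pow_right i)).coprime_dvd_left (orderOf_dvd_natCard x)) hd)]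
            exact one_mem _
          intro x hx
          refine Subgroup.mem_centralizer_iff.2 fun z hz => ?_
          rw [Set.mem_singleton_iff.1 hz]
          exact (Subgroup.mem_centralizer_iff.1
            (top_centralizes hp hp2 hq hqp hℓ hℓp hℓq hn σ hσ hfpf _ P.isPGroup' hinv hs) x hx).symm
        exact Subgroup.mem_centralizer_iff.2 fun x hx =>
          (Subgroup.mem_centralizer_iff.1 (hle hx) w rfl).symm
      exact FittingCores.centralizer_fitting_le hcen
    · set O := Cfsg.pCore q G with hOdef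
      haveI : O.Normal := FittingCores.pCore_normal q
      have hOinv : ∀ x ∈ O, σ x ∈ O := fun x hx => mem_char σ (FittingCores.pCore_characteristic q) hx
      obtain ⟨σb, hσb, hσbk⟩ := exists_quot σ O hOinv
      have hlt : Nat.card (G ⧸ O) < Nat.card G := by
        rw [← Subgroup.index, ← O.index_mul_card]
        have h2 : 1 < Nat.card O := by
          rw [Nat.one_lt_iff_ne_zero_and_ne_one]
          exact ⟨Nat.card_pos.ne', fun h => hO (Subgroup.card_eq_one.1 h)⟩
        exact lt_mul_of_one_lt_right (Nat.pos_of_ne_zero Subgroup.index_ne_zero_of_finite) h2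
      have hO' : Cfsg.pCore q (G ⧸ O) = ⊥ := PBasic.pCore_quotient_pCore q G
      have h := ih (G := G ⧸ O) (by omega) inferInstance σb
        (MulEquiv.ext fun x => by
          obtain ⟨x, rfl⟩ := QuotientGroup.mk_surjective x
          rw [hσbk, hσ]; rfl)
        (fun x hx => quot_fpf σ hfpf O hOinv σb hσb x hx) (s : G ⧸ O)
      rw [hσbk, ← QuotientGroup.mk_inv, ← QuotientGroup.mk_mul] at h
      have h1 : ((w : G) : G ⧸ O) = 1 := by
        refine orderOf_eq_one_iff.1 (Nat.Coprime.eq_one_of_dvd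
          (((hcopfit hO').pow_right k).coprime_dvd_left (Subgroup.orderOf_dvd_natCard _ h)) ?_)
        rw [← hk]
        exact orderOf_map_dvd (QuotientGroup.mk' O) w
      exact FittingCores.pCore_le_fitting hq ((QuotientGroup.eq_one_iff _).1 h1)

/-- The Fitting height is at most `n`. -/
theorem fitting_height {p : ℕ} (hp : p.Prime) (hp2 : p ≠ 2) :
    ∀ (n : ℕ) {G : Type u} [Group G] [Finite G], Group.IsSolvable G → ∀ (σ : MulAut G),
      σ ^ p ^ n = 1 → (∀ t, σ t = t → t = 1) →
      ∃ F : Fin (n + 1) → Subgroup G, F 0 = ⊥ ∧ F (Fin.last n) = ⊤ ∧ Monotone F ∧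
        (∀ i, (F i).Normal) ∧
        ∀ i : Fin n, ∃ k : ℕ, (F i.succ).lowerCentralSeries k ≤ F i.castSucc := by
  intro n
  induction n with
  | zero =>
    intro G _ _ _ σ hσ hfpf
    refine ⟨fun _ => ⊥, rfl, ?_, monotone_const, fun _ => inferInstance, fun i => i.elim0⟩
    rw [pow_zero, pow_one] at hσ
    exact ((Subgroup.eq_bot_iff_forall ⊤).2 fun x _ => hfpf x (by rw [hσ]; rfl)).symm
  | succ n ih =>
    intro G _ _ hG σ hσ hfpf
    haveI := hG
    have htop := top_mem_fitting hp hp2 (Nat.succ_pos n) (Nat.card G) le_rfl hG σ hσ hfpf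
    set F := Cfsg.fittingSubgroup G with hF
    haveI : F.Normal := FittingCores.fitting_normal
    have hFinv : ∀ x ∈ F, σ x ∈ F := fun x hx => mem_char σ FittingCores.fitting_characteristic hx
    obtain ⟨σb, hσb, hσbk⟩ := exists_quot σ F hFinv
    obtain ⟨E, hE0, hEl, hEm, hEn, hEk⟩ := ih (G := G ⧸ F) inferInstance σb
      (MulEquiv.ext fun x => by
        obtain ⟨x, rfl⟩ := QuotientGroup.mk_surjective x
        rw [hσbk]
        exact (QuotientGroup.eq.2 (by simpa using htop x)).symm)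
      (fun x hx => quot_fpf σ hfpf F hFinv σb hσb x hx)
    haveI := fun i => hEn i
    refine ⟨Fin.cons ⊥ fun i => (E i).comap (QuotientGroup.mk' F), Fin.cons_zero _ _, ?_, ?_, ?_, ?_⟩
    · rw [← Fin.succ_last, Fin.cons_succ, hEl, Subgroup.comap_top]
    · refine Fin.monotone_iff_le_succ.2 fun i => ?_
      refine Fin.cases ?_ (fun j => ?_) i
      · rw [Fin.castSucc_zero, Fin.cons_zero]; exact bot_le
      · rw [Fin.cons_succ, ← Fin.succ_castSucc, Fin.cons_succ]
        exact Subgroup.comap_mono (hEm j.castSucc_le_succ)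
    · intro i
      refine Fin.cases ?_ (fun j => ?_) i
      · rw [Fin.cons_zero]; infer_instance
      · rw [Fin.cons_succ]; infer_instance
    · intro i
      refine Fin.cases ?_ (fun j => ?_) i
      · obtain ⟨k, hk⟩ := (Subgroup.isNilpotent_iff_lowerCentralSeries _).1
          (FittingCores.fitting_nilpotent (G := G))
        refine ⟨k, ?_⟩
        rw [Fin.cons_succ, Fin.castSucc_zero, Fin.cons_zero, hE0, MonoidHom.comap_bot,
          QuotientGroup.ker_mk', hk]
      · obtain ⟨k, hk⟩ := hEk j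
        refine ⟨k, ?_⟩
        rw [Fin.cons_succ, ← Fin.succ_castSucc, Fin.cons_succ, ← Subgroup.map_le_iff_le_comap,
          Subgroup.map_lowerCentralSeries,
          Subgroup.map_comap_eq_self_of_surjective (QuotientGroup.mk'_surjective F)]
        exact hk

end Cfsg.Agent.ShultGross
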