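import Mathlib.Algebra.Module.LinearMap.End
import Mathlib.Algebra.BigOperators.Intervals
import Mathlib.Algebra.Group.End
import Mathlib.Algebra.Field.Basic
import Mathlib.Algebra.Group.Subgroup.Basic
import Mathlib.Data.Nat.Prime.Basic
import Mathlib.Tactic

/-! Weight vectors along the orbit of an operator permuting the weights. -/

set_option autoImplicit false

namespace Cfsg.Agent.ShultGross

variable {K : Type*} [Field K] {V : Type*} [AddCommGroup V] [Module K V] {Q : Type*} [Group Q]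

theorem weight_sum_eq_zero {ι : Type*} (τ : Q →* Module.End K V) (S : Subgroup Q)
    (μ : ι → Q → K) (s : Finset ι)
    (hne : ∀ i ∈ s, ∀ j ∈ s, i ≠ j → ∃ x ∈ S, μ i x ≠ μ j x) :
    ∀ w : ι → V, (∀ i ∈ s, ∀ x ∈ S, τ x (w i) = μ i x • w i) → ∑ i ∈ s, w i = 0 →
      ∀ i ∈ s, w i = 0 := by
  classical
  induction s using Finset.induction_on with
  | empty => intro w _ _ i hi; exact absurd hi (Finset.notMem_empty i)
  | insert a s ha ih =>
    intro w hw h0
    have ih' := ih fun i hi j hj => hne i (Finset.mem_insert_of_mem hi) j (Finset.mem_insert_of_mem hj)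
    have hzero : ∀ i ∈ s, w i = 0 := by
      intro i hi
      obtain ⟨x, hx, hxne⟩ := hne i (Finset.mem_insert_of_mem hi) a (Finset.mem_insert_self a s)
        (fun h => ha (h ▸ hi))
      have h1 : ∑ j ∈ insert a s, (μ j x - μ a x) • w j = 0 := by
        have e : ∀ j ∈ insert a s, (μ j x - μ a x) • w j = τ x (w j) - μ a x • w j := fun j hj => by
          rw [sub_smul, hw j hj x hx]
        rw [Finset.sum_congr rfl e, Finset.sum_sub_distrib, ← map_sum, ← Finset.smul_sum, h0,
          map_zero, smul_zero, sub_zero]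
      rw [Finset.sum_insert ha, sub_self, zero_smul, zero_add] at h1
      have h2 := ih' (fun j => (μ j x - μ a x) • w j) (fun j hj z hz => by
        rw [map_smul, hw j (Finset.mem_insert_of_mem hj) z hz, smul_comm]) h1 i hi
      exact (smul_eq_zero.1 h2).resolve_left (sub_ne_zero.2 hxne)
    intro i hi
    rcases Finset.mem_insert.1 hi with rfl | hi
    · rw [Finset.sum_insert ha, Finset.sum_eq_zero hzero, add_zero] at h0
      exact h0
    · exact hzero i hi

theorem invariant_pow_mul {θ : MulAut Q} {S : Subgroup Q} {μ : Q → K} {a : ℕ}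
    (hS : ∀ s ∈ S, θ s ∈ S) (hμa : ∀ s ∈ S, μ ((θ ^ a) s) = μ s) (k : ℕ) :
    ∀ s ∈ S, μ ((θ ^ (a * k)) s) = μ s := by
  have hSk : ∀ (k : ℕ), ∀ s ∈ S, (θ ^ k) s ∈ S := by
    intro k
    induction k with
    | zero => intro s hs; simpa using hs
    | succ k ih => intro s hs; rw [pow_succ', MulAut.mul_apply]; exact hS _ (ih s hs)
  induction k with
  | zero => intro s _; simp
  | succ k ih =>
    intro s hs
    rw [Nat.mul_succ, pow_add, MulAut.mul_apply, ih _ (hSk a s hs), hμa s hs]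

theorem conj_pow {τ : Q →* Module.End K V} {X : Module.End K V} {θ : MulAut Q}
    (hconj : ∀ t, X * τ t = τ (θ t) * X) :
    ∀ (i : ℕ) (t : Q), X ^ i * τ t = τ ((θ ^ i) t) * X ^ i := by
  intro i
  induction i with
  | zero => simp
  | succ i ih =>
    intro t
    rw [pow_succ', mul_assoc, ih, ← mul_assoc, hconj, mul_assoc, ← MulAut.mul_apply, ← pow_succ']

/-- A vanishing orbit sum of a weight vector vanishes along the stabiliser of the weight. -/
theorem grouping (τ : Q →* Module.End K V) (X : Module.End K V) (θ : MulAut Q)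
    (hconj : ∀ t, X * τ t = τ (θ t) * X) (S : Subgroup Q) (hS : ∀ s ∈ S, θ s ∈ S)
    (hS' : ∀ t, θ t ∈ S → t ∈ S) (μ : Q → K) (a b : ℕ) (ha : 1 ≤ a)
    (hμa : ∀ s ∈ S, μ ((θ ^ a) s) = μ s)
    (hdist : ∀ i, 0 < i → i < a → ∃ s ∈ S, μ ((θ ^ i) s) ≠ μ s)
    (v : V) (hv : ∀ s ∈ S, τ s v = μ s • v)
    (hsum : ∑ i ∈ Finset.range (a * b), (X ^ i) v = 0) :
    ∑ k ∈ Finset.range b, (X ^ (a * k)) v = 0 := by
  classical
  have hSk : ∀ (k : ℕ), ∀ s ∈ S, (θ ^ k) s ∈ S := by
    intro k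
    induction k with
    | zero => intro s hs; simpa using hs
    | succ k ih => intro s hs; rw [pow_succ', MulAut.mul_apply]; exact hS _ (ih s hs)
  have hSk' : ∀ (k : ℕ), ∀ s ∈ S, (θ ^ k).symm s ∈ S := by
    intro k
    induction k with
    | zero =>
      intro s hs
      have e : (θ ^ 0).symm s = s := (θ ^ 0).injective (by rw [MulEquiv.apply_symm_apply]; rfl)
      rw [e]; exact hs
    | succ k ih =>
      intro s hs
      refine hS' _ ?_
      have : θ ((θ ^ (k + 1)).symm s) = (θ ^ k).symm s := (θ ^ k).injective (by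
        rw [← MulAut.mul_apply, ← pow_succ, MulEquiv.apply_symm_apply, MulEquiv.apply_symm_apply])
      rw [this]; exact ih s hs
  have hw : ∀ i, ∀ s ∈ S, τ s ((X ^ i) v) = μ ((θ ^ i).symm s) • (X ^ i) v := by
    intro i s hs
    have h := congrArg (fun F : Module.End K V => F v) (conj_pow hconj i ((θ ^ i).symm s))
    simp only [Module.End.mul_apply, MulEquiv.apply_symm_apply] at h
    rw [← h, hv _ (hSk' i s hs), map_smul]
  have hper : ∀ j k, ∀ s ∈ S, μ ((θ ^ (a * k + j)).symm s) = μ ((θ ^ j).symm s) := by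
    intro j k s hs
    have e : (θ ^ j).symm s = (θ ^ (a * k)) ((θ ^ (a * k + j)).symm s) := (θ ^ j).injective (by
      rw [MulEquiv.apply_symm_apply, ← MulAut.mul_apply, ← pow_add, Nat.add_comm j,
        MulEquiv.apply_symm_apply])
    rw [e, invariant_pow_mul hS hμa k _ (hSk' _ s hs)]
  set w : ℕ → V := fun j => ∑ k ∈ Finset.range b, (X ^ (a * k + j)) v with hwdef
  have hsum' : ∑ j ∈ Finset.range a, w j = 0 := by
    rw [← hsum, hwdef, Finset.sum_comm]
    clear hsum hwdef w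
    induction b with
    | zero => simp
    | succ b ih => rw [Finset.sum_range_succ, ih, Nat.mul_succ, Finset.sum_range_add]
  have h := weight_sum_eq_zero τ S (fun j s => μ ((θ ^ j).symm s)) (Finset.range a) ?_ w ?_ hsum' 0
    (Finset.mem_range.2 ha)
  · simpa [hwdef] using h
  · have key : ∀ i j, i < j → j < a → ∃ s ∈ S, μ ((θ ^ i).symm s) ≠ μ ((θ ^ j).symm s) := by
      intro i j hij hj
      obtain ⟨s, hs, hne⟩ := hdist (j - i) (by omega) (by omega)
      refine ⟨(θ ^ j) s, hSk j s hs, ?_⟩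
      have e : (θ ^ i).symm ((θ ^ j) s) = (θ ^ (j - i)) s := (θ ^ i).injective (by
        rw [MulEquiv.apply_symm_apply, ← MulAut.mul_apply, ← pow_add, Nat.add_sub_cancel' hij.le])
      rw [e, MulEquiv.symm_apply_apply]
      exact hne
    intro i hi j hj hne
    rcases Nat.lt_or_gt_of_ne hne with h | h
    · exact key i j h (Finset.mem_range.1 hj)
    · obtain ⟨s, hs, hs'⟩ := key j i h (Finset.mem_range.1 hi)
      exact ⟨s, hs, hs'.symm⟩
  · intro j _ s hs
    rw [hwdef]
    simp only [map_sum, Finset.smul_sum]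
    refine Finset.sum_congr rfl fun k _ => ?_
    rw [hw _ s hs, hper j k s hs]

/-- The stabiliser of a weight is generated by a power of prime power exponent. -/
theorem exists_orbit {p n : ℕ} (hp : p.Prime) (θ : MulAut Q) (hθ : θ ^ p ^ n = 1) (S : Subgroup Q)
    (hS : ∀ s ∈ S, θ s ∈ S) (μ : Q → K) :
    ∃ j, j ≤ n ∧ (∀ s ∈ S, μ ((θ ^ p ^ j) s) = μ s) ∧
      (∀ i, 0 < i → i < p ^ j → ∃ s ∈ S, μ ((θ ^ i) s) ≠ μ s) ∧
      ∀ i, (∀ s ∈ S, μ ((θ ^ i) s) = μ s) → p ^ j ∣ i := by
  classical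
  have hex : ∃ a, 0 < a ∧ ∀ s ∈ S, μ ((θ ^ a) s) = μ s :=
    ⟨p ^ n, pow_pos hp.pos n, fun s _ => by rw [hθ]; rfl⟩
  obtain ⟨ha, hμa⟩ := Nat.find_spec hex
  set a := Nat.find hex with hadef
  have hmin : ∀ i, 0 < i → i < a → ∃ s ∈ S, μ ((θ ^ i) s) ≠ μ s := fun i hi hia => by
    by_contra hcon
    push Not at hcon
    exact Nat.find_min hex hia ⟨hi, hcon⟩
  have hdvd : ∀ i, (∀ s ∈ S, μ ((θ ^ i) s) = μ s) → a ∣ i := by
    intro i hi
    rw [Nat.dvd_iff_mod_eq_zero]
    by_contra hne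
    obtain ⟨s, hs, hs'⟩ := hmin (i % a) (Nat.pos_of_ne_zero hne) (Nat.mod_lt _ ha)
    apply hs'
    have hmem : (θ ^ (i % a)) s ∈ S := by
      clear hs'
      induction i % a with
      | zero => simpa using hs
      | succ k ih => rw [pow_succ', MulAut.mul_apply]; exact hS _ ih
    rw [← invariant_pow_mul hS hμa (i / a) _ hmem, ← MulAut.mul_apply, ← pow_add, Nat.div_add_mod]
    exact hi s hs
  obtain ⟨j, hj, hja⟩ := (Nat.dvd_prime_pow hp).1 (hdvd (p ^ n) fun s _ => by rw [hθ]; rfl)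
  exact ⟨j, hj, hja ▸ hμa, hja ▸ hmin, hja ▸ hdvd⟩

end Cfsg.Agent.ShultGross
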