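import Cfsg.Agent.Lib.ShultGross.Field
import Cfsg.Agent.Lib.ShultGross.Weights
import Cfsg.Agent.Lib.Solvable.CoprimeFreeGroup

/-! A fixed point free automorphism of order `p ^ n` of a `q`-group acting without fixed points on a
module: its `p ^ (n - 1)`-st power is trivial on the image of the `q`-group. -/

set_option autoImplicit false
open scoped commutatorElement

open Module

universe u

namespace Cfsg.Agent.ShultGross

theorem mem_of_moved_mem {Q : Type*} [Group Q] [Finite Q] (θ : MulAut Q)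
    (hfpf : ∀ t, θ t = t → t = 1) (N : Subgroup Q) (hN : ∀ t ∈ N, θ t ∈ N) {t : Q}
    (ht : θ t * t⁻¹ ∈ N) : t ∈ N := by
  have hinj : Function.Injective fun s : Q => θ s * s⁻¹ := fun a b h => by
    have h' : θ (b⁻¹ * a) = b⁻¹ * a := by
      rw [map_mul, map_inv]
      calc (θ b)⁻¹ * θ a = b⁻¹ * (θ b * b⁻¹)⁻¹ * (θ a * a⁻¹) * a := by group
        _ = b⁻¹ * a := by rw [show θ a * a⁻¹ = θ b * b⁻¹ from h, inv_mul_cancel_right]
    exact (inv_mul_eq_one.1 (hfpf _ h')).symm
  obtain ⟨⟨m, hm⟩, hmt⟩ := Finite.surjective_of_injective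
    (f := fun m : N => (⟨θ m * (m : Q)⁻¹, N.mul_mem (hN m m.2) (N.inv_mem m.2)⟩ : N))
    (fun a b h => Subtype.ext (hinj (congrArg Subtype.val h))) ⟨_, ht⟩
  rw [← hinj (congrArg Subtype.val hmt : θ m * m⁻¹ = θ t * t⁻¹)]
  exact hm

theorem pow_arith {ι : Type*} (s : Finset ι) (m : ι → ℕ) {N M p e : ℕ} (hp : p.Prime) (hp2 : p ≠ 2)
    (he : 1 ≤ e) (hcard : s.card + 1 = p ^ e) (hsum : ∑ i ∈ s, m i = N)
    (hsq : ∑ i ∈ s, m i ^ 2 = M + 1) (hN : N * N = p ^ e * M + 1) (hN2 : 2 ≤ N) :
    N + 1 = p ^ e := by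
  have h := sq_sum_le_card_mul_sum_sq (s := s) (f := m)
  rw [hsum, hsq] at h
  simp only [Nat.cast_id] at h
  set r := p ^ e with hr
  have h1 : s.card * (M + 1) * r = s.card * (N * N + s.card) := by
    rw [hN, ← hcard]; ring
  have hle : N ≤ s.card := by
    have h' := Nat.mul_le_mul_right r h
    rw [h1] at h'
    have h2 : N ^ 2 * r = N * N * s.card + N ^ 2 := by rw [← hcard]; ring
    rw [h2] at h'
    nlinarith
  have hdvd : r ∣ (N + 1) * (N - 1) := ⟨M, by
    obtain ⟨k, rfl⟩ := Nat.exists_eq_add_of_le hN2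
    have hk : 2 + k - 1 = k + 1 := by omega
    rw [hk]
    nlinarith⟩
  by_cases h3 : p ∣ N + 1
  · have h4 : Nat.Coprime r (N - 1) := Nat.Coprime.pow_left _ (hp.coprime_iff_not_dvd.2 fun h5 => hp2
      ((Nat.prime_dvd_prime_iff_eq hp Nat.prime_two).1 (by
        have := Nat.dvd_sub h3 h5
        rwa [show N + 1 - (N - 1) = 2 by omega] at this)))
    have := Nat.le_of_dvd (by omega) (h4.dvd_of_dvd_mul_right hdvd)
    omega
  · have h4 : Nat.Coprime r (N + 1) := Nat.Coprime.pow_left _ (hp.coprime_iff_not_dvd.2 h3)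
    have := Nat.le_of_dvd (by omega) (h4.dvd_of_dvd_mul_left hdvd)
    omega

section Forms

variable {Q : Type*} [Group Q] (hQZ : ∀ u t : Q, ⁅u, t⁆ ∈ Subgroup.center Q)
  {A : Type*} [CommGroup A] (lam : Subgroup.center Q →* A)

/-- The commutator form of a character of the centre. -/
def form (u t : Q) : A := lam ⟨⁅u, t⁆, hQZ u t⟩

theorem form_mul_left (u u' t : Q) : form hQZ lam (u * u') t = form hQZ lam u t * form hQZ lam u' t := by
  have h : ⁅u * u', t⁆ = ⁅u, t⁆ * ⁅u', t⁆ := by
    calc ⁅u * u', t⁆ = u * ⁅u', t⁆ * u⁻¹ * ⁅u, t⁆ := by simp only [commutatorElement_def]; group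
      _ = ⁅u, t⁆ * ⁅u', t⁆ := by
        rw [Subgroup.mem_center_iff.1 (hQZ u' t) u, mul_inv_cancel_right,
          Subgroup.mem_center_iff.1 (hQZ u t) ⁅u', t⁆]
  simp only [form, ← map_mul]
  exact congrArg lam (Subtype.ext h)

theorem form_swap (u t : Q) : form hQZ lam t u = (form hQZ lam u t)⁻¹ := by
  simp only [form, ← map_inv]
  exact congrArg lam (Subtype.ext (commutatorElement_inv u t).symm)

theorem form_mul_right (u t t' : Q) : form hQZ lam u (t * t') = form hQZ lam u t * form hQZ lam u t' := by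
  rw [form_swap, form_mul_left, mul_inv, ← form_swap, ← form_swap]

theorem form_central (u : Q) {z : Q} (hz : z ∈ Subgroup.center Q) : form hQZ lam z u = 1 := by
  rw [form, ← map_one lam]
  exact congrArg lam (Subtype.ext
    (commutatorElement_eq_one_iff_mul_comm.2 (Subgroup.mem_center_iff.1 hz u).symm))

theorem form_one_left (t : Q) : form hQZ lam 1 t = 1 :=
  form_central hQZ lam t (one_mem _)

theorem form_congr (u t : Q) {u' t' : Q} (hu : u⁻¹ * u' ∈ Subgroup.center Q)
    (ht : t⁻¹ * t' ∈ Subgroup.center Q) : form hQZ lam u' t' = form hQZ lam u t := by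
  rw [show u' = u * (u⁻¹ * u') by group, show t' = t * (t⁻¹ * t') by group, form_mul_left,
    form_central _ _ _ hu, mul_one, form_mul_right, form_swap _ _ (t⁻¹ * t') u,
    form_central _ _ _ ht, inv_one, mul_one]

/-- The radical of the commutator form. -/
def radical : Subgroup Q where
  carrier := {t | ∀ u, form hQZ lam u t = 1}
  one_mem' u := by rw [form_swap, form_one_left, inv_one]
  mul_mem' {a b} ha hb u := by rw [form_mul_right, ha u, hb u, one_mul]
  inv_mem' {a} ha u := by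
    have h := form_mul_right hQZ lam u a a⁻¹
    rw [mul_inv_cancel, form_swap, form_one_left, inv_one, ha u, one_mul] at h
    exact h.symm

end Forms

variable {K : Type*} [Field K] {V : Type*} [AddCommGroup V] [Module K V]

/-- An irreducible constituent on which a given central element acts nontrivially. -/
theorem exists_weight [IsAlgClosed K] [FiniteDimensional K V] {Q : Type*} [Group Q] [Finite Q]
    (hQK : (Nat.card Q : K) ≠ 0) (τ : Q →* Module.End K V) (z : Subgroup.center Q)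
    (hz : τ (z : Q) ≠ 1) :
    ∃ (W : Submodule K V) (lam : Subgroup.center Q →* Kˣ), W ≠ ⊥ ∧ (∀ t, ∀ v ∈ W, τ t v ∈ W) ∧
      (∀ W' ≤ W, (∀ t, ∀ v ∈ W', τ t v ∈ W') → W' = ⊥ ∨ W' = W) ∧ lam z ≠ 1 ∧
      ∀ c : Subgroup.center Q, ∀ v ∈ W, τ (c : Q) v = (lam c : K) • v := by
  classical
  let F : Submodule K V := LinearMap.ker (τ (z : Q) - 1)
  have hFmem : ∀ v, v ∈ F ↔ τ (z : Q) v = v := fun v => by
    rw [LinearMap.mem_ker, LinearMap.sub_apply, Module.End.one_apply, sub_eq_zero]
  have hFi : ∀ t, ∀ v ∈ F, τ t v ∈ F := fun t v hv => by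
    rw [hFmem] at hv ⊢
    rw [← Module.End.mul_apply, ← map_mul, (Subgroup.mem_center_iff.1 z.2 t).symm, map_mul,
      Module.End.mul_apply, hv]
  have hF : F ≠ ⊤ := fun h => hz (LinearMap.ext fun v => (hFmem v).1 (h ▸ Submodule.mem_top))
  obtain ⟨U, hU, hUi⟩ := HHLinear.exists_complement τ hQK F hFi
  have hU0 : U ≠ ⊥ := fun h => hF (by have := hU.sup_eq_top; rwa [h, sup_bot_eq] at this)
  obtain ⟨W, hWU, hW0, hWi, hWmin⟩ := HHLinear.exists_irreducible τ U hU0 hUi
  have : Nontrivial W := Submodule.nontrivial_iff_ne_bot.2 hW0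
  let σ : Q →* Module.End K W :=
    { toFun := fun t => (τ t).restrict (hWi t)
      map_one' := LinearMap.ext fun w => Subtype.ext (by simp)
      map_mul' := fun a b => LinearMap.ext fun w => Subtype.ext (by simp) }
  have hirr : ∀ U : Submodule K W, (∀ t, ∀ v ∈ U, σ t v ∈ U) → U = ⊥ ∨ U = ⊤ := fun U hU => by
    rcases hWmin (U.map W.subtype) (Submodule.map_subtype_le _ _) (by
      rintro t _ ⟨v, hv, rfl⟩
      exact ⟨_, hU t v hv, rfl⟩) with h | h
    · exact Or.inl (Submodule.map_injective_of_injective W.injective_subtype (by rw [h, Submodule.map_bot]))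
    · exact Or.inr (Submodule.map_injective_of_injective W.injective_subtype
        (by rw [h, Submodule.map_subtype_top]))
  obtain ⟨w₀, hw₀⟩ := exists_ne (0 : W)
  obtain ⟨-, hschur⟩ := HHLinear.span_eq_top_and_schur σ hirr
  have hscal : ∀ c : Subgroup.center Q, ∃ a : K, σ (c : Q) = a • 1 := fun c =>
    hschur _ fun u => by
      rw [Commute, SemiconjBy, ← map_mul, ← map_mul, Subgroup.mem_center_iff.1 c.2 u]
  choose a ha using hscal
  have hinj : ∀ x y : K, x • (1 : Module.End K W) = y • (1 : Module.End K W) → x = y := fun x y h =>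
    smul_left_injective K hw₀ (by simpa using congrArg (fun G : Module.End K W => G w₀) h)
  let l : Subgroup.center Q →* K :=
    { toFun := a
      map_one' := hinj _ _ (by rw [← ha, OneMemClass.coe_one, map_one, one_smul])
      map_mul' := fun c d => hinj _ _ (by
        rw [← ha, Subgroup.coe_mul, map_mul, ha, ha, smul_mul_smul_comm, one_mul]) }
  refine ⟨W, l.toHomUnits, hW0, hWi, hWmin, fun h => ?_, fun c v hv => ?_⟩
  · have h1 : a z = 1 := by simpa [l] using congrArg Units.val h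
    have h2 : τ (z : Q) (w₀ : V) = w₀ := by
      have := congrArg (fun G : Module.End K W => ((G w₀ : W) : V)) (ha z)
      simpa [σ, h1] using this
    exact hw₀ (Subtype.ext (Submodule.disjoint_def.1 hU.disjoint _ ((hFmem _).2 h2) (hWU w₀.2)))
  · have := congrArg (fun G : Module.End K W => ((G ⟨v, hv⟩ : W) : V)) (ha c)
    simpa [σ, l] using this

/-- A character of the centre of a class two group has no long orbit under an operator acting
fixed point freely, if its commutator form is invariant. -/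
theorem forms_false {Q : Type*} [Group Q] [Finite Q] {p n e d : ℕ} (hp : p.Prime) (hp2 : p ≠ 2)
    (hen : e ≤ n) (he : 1 ≤ e) (hd : 1 ≤ d) (hh : p ^ e = 2 ^ d + 1)
    (θ : MulAut Q) (hθ : θ ^ p ^ n = 1) (hfpf : ∀ t, θ t = t → t = 1)
    (hQZ : ∀ u t : Q, ⁅u, t⁆ ∈ Subgroup.center Q) (hsq : ∀ t : Q, t * t ∈ Subgroup.center Q)
    (hirr : ∀ D : Subgroup Q, Subgroup.center Q ≤ D → (∀ t ∈ D, θ t ∈ D) →
      D = Subgroup.center Q ∨ D = ⊤)
    (hmove : ∃ t, (θ ^ p ^ (n - 1)) t * t⁻¹ ∉ Subgroup.center Q)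
    {A : Type*} [CommGroup A] (lam : Subgroup.center Q →* A)
    (hlam : ∀ c : Subgroup.center Q, ∀ h : (θ ^ p ^ (n - e)) (c : Q) ∈ Subgroup.center Q,
      lam ⟨_, h⟩ = lam c)
    (hidx : (radical hQZ lam).index ≤ 2 ^ (2 * d)) (hne : radical hQZ lam ≠ ⊤) : False := by
  classical
  have hZθ : ∀ z ∈ (Subgroup.center Q), θ z ∈ (Subgroup.center Q) := fun z hz => Subgroup.mem_center_iff.2 fun u => by
    obtain ⟨u', rfl⟩ := θ.surjective u
    rw [← map_mul, ← map_mul, Subgroup.mem_center_iff.1 hz u']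
  have hZθk : ∀ (k : ℕ), ∀ z ∈ (Subgroup.center Q), (θ ^ k) z ∈ (Subgroup.center Q) := by
    intro k
    induction k with
    | zero => intro z hz; simpa using hz
    | succ k ih => intro z hz; rw [pow_succ', MulAut.mul_apply]; exact hZθ _ (ih z hz)
  set a := p ^ (n - e) with ha
  -- the quotient as a module over the polynomials in the operator
  letI instC : CommGroup (Q ⧸ (Subgroup.center Q)) :=
    { (inferInstance : Group (Q ⧸ (Subgroup.center Q))) with
      mul_comm := fun x y => by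
        obtain ⟨x, rfl⟩ := QuotientGroup.mk_surjective x
        obtain ⟨y, rfl⟩ := QuotientGroup.mk_surjective y
        rw [← commutatorElement_eq_one_iff_mul_comm, ← QuotientGroup.coe_mk' (Subgroup.center Q),
          ← map_commutatorElement]
        exact (QuotientGroup.eq_one_iff _).2 (hQZ x y) }
  letI instM : Module (ZMod 2) (Additive (Q ⧸ (Subgroup.center Q))) := AddCommGroup.zmodModule fun v => by
    obtain ⟨x, hx⟩ := QuotientGroup.mk_surjective (Additive.toMul v)
    rw [two_nsmul]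
    change Additive.ofMul (Additive.toMul v * Additive.toMul v) = 0
    rw [← hx, ← QuotientGroup.mk_mul, (QuotientGroup.eq_one_iff _).2 (hsq x)]
    rfl
  have hmap : (Subgroup.center Q).map θ.toMonoidHom = (Subgroup.center Q) := by
    refine Subgroup.eq_of_le_of_card_ge ?_ ?_
    · rintro _ ⟨z, hz, rfl⟩; exact hZθ z hz
    · rw [Subgroup.card_map_of_injective θ.injective]
  let T : Module.End (ZMod 2) (Additive (Q ⧸ (Subgroup.center Q))) :=
    CoprimeFree.autEnd 2 (Q ⧸ (Subgroup.center Q)) (QuotientGroup.congr (Subgroup.center Q) (Subgroup.center Q) θ hmap)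
  let mkU : Q → Additive (Q ⧸ (Subgroup.center Q)) := fun t => Additive.ofMul (QuotientGroup.mk t)
  have hTmk : ∀ t, T (mkU t) = mkU (θ t) := fun t => rfl
  have hTk : ∀ (k : ℕ) t, (T ^ k) (mkU t) = mkU ((θ ^ k) t) := by
    intro k
    induction k with
    | zero => intro t; rfl
    | succ k ih => intro t; rw [pow_succ', Module.End.mul_apply, ih, hTmk, pow_succ', MulAut.mul_apply]
  have hmkU : ∀ v, ∃ t, mkU t = v := fun v => by
    obtain ⟨t, ht⟩ := QuotientGroup.mk_surjective (Additive.toMul v)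
    exact ⟨t, congrArg Additive.ofMul ht⟩
  choose rep hrep using hmkU
  have hmkeq : ∀ s t, mkU s = mkU t ↔ s⁻¹ * t ∈ (Subgroup.center Q) := fun s t => QuotientGroup.eq
  have hinvU : ∀ N : Submodule (ZMod 2) (Additive (Q ⧸ (Subgroup.center Q))), (∀ v ∈ N, T v ∈ N) → N = ⊥ ∨ N = ⊤ := by
    intro N hN
    let D : Subgroup Q :=
      { carrier := {t | mkU t ∈ N}
        one_mem' := N.zero_mem
        mul_mem' := fun {s t} hs ht => N.add_mem hs ht
        inv_mem' := fun {s} hs => N.neg_mem hs }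
    rcases hirr D (fun z hz => by
        change mkU z ∈ N
        rw [show mkU z = 0 from congrArg Additive.ofMul ((QuotientGroup.eq_one_iff z).2 hz)]
        exact N.zero_mem)
      (fun t ht => by
        change mkU (θ t) ∈ N
        rw [← hTmk]; exact hN _ ht) with h | h
    · refine Or.inl ((Submodule.eq_bot_iff _).2 fun v hv => ?_)
      have h' : rep v ∈ D := by change mkU (rep v) ∈ N; rw [hrep]; exact hv
      rw [h] at h'
      rw [← hrep v]
      exact congrArg Additive.ofMul ((QuotientGroup.eq_one_iff _).2 h')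
    · refine Or.inr (Submodule.eq_top_iff'.2 fun v => ?_)
      rw [← hrep v]
      exact (h ▸ Subgroup.mem_top (rep v) : rep v ∈ D)
  obtain ⟨t₀, ht₀⟩ := hmove
  set u₀ := mkU t₀ with hu₀
  have hu₀0 : u₀ ≠ 0 := fun h => ht₀ ((Subgroup.center Q).mul_mem (hZθk _ t₀ ((QuotientGroup.eq_one_iff _).1 h))
    ((Subgroup.center Q).inv_mem ((QuotientGroup.eq_one_iff _).1 h)))
  let φ : Polynomial (ZMod 2) →ₐ[ZMod 2] Module.End (ZMod 2) (Additive (Q ⧸ (Subgroup.center Q))) := Polynomial.aeval T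
  have hφT : φ Polynomial.X = T := Polynomial.aeval_X T
  let ev : Polynomial (ZMod 2) →+ Additive (Q ⧸ (Subgroup.center Q)) := AddMonoidHom.mk' (fun f => φ f u₀) fun f g => by
    rw [map_add, LinearMap.add_apply]
  have hevsurj : Function.Surjective ev := by
    let N : Submodule (ZMod 2) (Additive (Q ⧸ (Subgroup.center Q))) :=
      LinearMap.range ((LinearMap.applyₗ u₀).comp φ.toLinearMap)
    rcases hinvU N (by
      rintro _ ⟨f, rfl⟩
      refine ⟨Polynomial.X * f, ?_⟩
      change φ (Polynomial.X * f) u₀ = T (φ f u₀)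
      rw [map_mul, hφT]; rfl) with h | h
    · exact absurd ((Submodule.eq_bot_iff _).1 h u₀ ⟨1, by
        change φ 1 u₀ = u₀
        rw [map_one]; rfl⟩) hu₀0
    · intro v
      obtain ⟨f, hf⟩ := (Submodule.eq_top_iff'.1 h) v
      exact ⟨f, hf⟩
  let I : Ideal (Polynomial (ZMod 2)) := RingHom.ker φ
  have hIev : ∀ f, f ∈ I ↔ ev f = 0 := fun f => by
    refine ⟨fun h => ?_, fun h => RingHom.mem_ker.2 (LinearMap.ext fun v => ?_)⟩
    · change φ f u₀ = 0
      rw [show φ f = 0 from RingHom.mem_ker.1 h]; rfl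
    · obtain ⟨g, rfl⟩ := hevsurj v
      change φ f (φ g u₀) = 0
      rw [← Module.End.mul_apply, ← map_mul, mul_comm, map_mul, Module.End.mul_apply,
        show φ f u₀ = 0 from h, map_zero]
  haveI hIp : I.IsPrime := by
    refine Ideal.isPrime_iff.2 ⟨fun h => hu₀0 ?_, fun {f g} hfg => ?_⟩
    · have := (hIev 1).1 (h ▸ Submodule.mem_top)
      change φ 1 u₀ = 0 at this
      rwa [map_one] at this
    · by_cases hf : f ∈ I
      · exact Or.inl hf
      refine Or.inr ?_
      rcases hinvU (LinearMap.ker (φ f)) (fun v hv => by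
        rw [LinearMap.mem_ker] at hv ⊢
        rw [← hφT, ← Module.End.mul_apply, ← map_mul, mul_comm, map_mul, Module.End.mul_apply, hv,
          map_zero]) with h | h
      · refine (hIev g).2 ((Submodule.eq_bot_iff _).1 h _ (LinearMap.mem_ker.2 ?_))
        change φ f (φ g u₀) = 0
        rw [← Module.End.mul_apply, ← map_mul]
        exact (hIev _).1 hfg
      · exact absurd (RingHom.mem_ker.2 (LinearMap.ker_eq_top.1 h) : f ∈ I) hf
  let E : Polynomial (ZMod 2) ⧸ I → Additive (Q ⧸ (Subgroup.center Q)) := fun x =>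
    Quotient.liftOn' x ev fun f g hfg => by
      have h := (hIev _).1 ((Submodule.quotientRel_def I).1 hfg)
      rwa [map_sub, sub_eq_zero] at h
  have hEmk : ∀ f, E (Ideal.Quotient.mk I f) = ev f := fun f => rfl
  have hEadd : ∀ x y, E (x + y) = E x + E y := fun x y => by
    obtain ⟨f, rfl⟩ := Ideal.Quotient.mk_surjective x
    obtain ⟨g, rfl⟩ := Ideal.Quotient.mk_surjective y
    rw [← map_add, hEmk, hEmk, hEmk, map_add]
  have hEinj : Function.Injective E := fun x y hxy => by
    obtain ⟨f, rfl⟩ := Ideal.Quotient.mk_surjective x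
    obtain ⟨g, rfl⟩ := Ideal.Quotient.mk_surjective y
    rw [hEmk, hEmk, ← sub_eq_zero, ← map_sub] at hxy
    exact Ideal.Quotient.eq.2 ((hIev _).2 hxy)
  have hEsurj : Function.Surjective E := fun v => by
    obtain ⟨f, rfl⟩ := hevsurj v
    exact ⟨Ideal.Quotient.mk I f, rfl⟩
  haveI : Finite (Polynomial (ZMod 2) ⧸ I) := Finite.of_injective E hEinj
  haveI : I.IsMaximal := Ideal.Quotient.maximal_of_isField _ (Finite.isDomain_to_isField _)
  letI : Field (Polynomial (ZMod 2) ⧸ I) := Ideal.Quotient.field I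
  haveI : CharP (Polynomial (ZMod 2) ⧸ I) 2 := charP_of_injective_algebraMap' (ZMod 2) 2
  set ζ : Polynomial (ZMod 2) ⧸ I := Ideal.Quotient.mk I Polynomial.X with hζdef
  have hEζ : ∀ x, E (ζ * x) = T (E x) := fun x => by
    obtain ⟨f, rfl⟩ := Ideal.Quotient.mk_surjective x
    rw [hζdef, ← map_mul, hEmk, hEmk]
    change φ (Polynomial.X * f) u₀ = T (φ f u₀)
    rw [map_mul, hφT]; rfl
  have hEζk : ∀ (k : ℕ) x, E (ζ ^ k * x) = mkU ((θ ^ k) (rep (E x))) := by
    intro k x
    rw [← hTk, hrep]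
    induction k with
    | zero => rw [pow_zero, one_mul]; rfl
    | succ k ih => rw [pow_succ', mul_assoc, hEζ, ih, pow_succ' T, Module.End.mul_apply]
  have hζn : ζ ^ p ^ n = 1 := hEinj (by
    have h := hEζk (p ^ n) 1
    rw [mul_one, hθ] at h
    rw [h]; exact hrep _)
  have hord : orderOf (ζ ^ a) = p ^ e := by
    haveI := Fact.mk hp
    obtain ⟨f, rfl⟩ := Nat.exists_eq_add_of_le he
    rw [show 1 + f = f + 1 from add_comm 1 f] at hen ha ⊢
    refine orderOf_eq_prime_pow (fun h => ht₀ ?_) ?_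
    · have he' : a * p ^ f = p ^ (n - 1) := by rw [ha, ← pow_add]; congr 1; omega
      rw [← pow_mul, he'] at h
      obtain ⟨x, hx⟩ := hEsurj u₀
      have h1 := hEζk (p ^ (n - 1)) x
      rw [h, one_mul, hx] at h1
      have h2 : mkU ((θ ^ p ^ (n - 1)) t₀) = u₀ := by
        refine Eq.trans ?_ h1.symm
        rw [← hTk, ← hTk, hrep]
      have h3 := (hmkeq _ _).1 h2.symm
      have h4 := (inferInstance : (Subgroup.center Q).Normal).conj_mem _ h3 t₀
      rwa [mul_inv_cancel_left] at h4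
    · rw [← pow_mul, ha, ← pow_add, show n - (f + 1) + (f + 1) = n by omega, hζn]
  let B : Polynomial (ZMod 2) ⧸ I → Polynomial (ZMod 2) ⧸ I → A := fun x y =>
    form hQZ lam (rep (E x)) (rep (E y))
  have hBmk : ∀ x y s t, mkU s = E x → mkU t = E y → B x y = form hQZ lam s t := fun x y s t hs ht =>
    form_congr hQZ lam s t ((hmkeq _ _).1 (by rw [hrep, hs])) ((hmkeq _ _).1 (by rw [hrep, ht]))
  have hBadd : ∀ x x' y, B (x + x') y = B x y * B x' y := fun x x' y => by
    rw [hBmk (x + x') y (rep (E x) * rep (E x')) (rep (E y)) ?_ (hrep _), form_mul_left]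
    rw [hEadd]
    conv_rhs => rw [← hrep (E x), ← hrep (E x')]
    rfl
  have hBsym : ∀ x y, B x y = B y x := fun x y => by
    have h2 : form hQZ lam (rep (E x)) (rep (E y)) * form hQZ lam (rep (E x)) (rep (E y)) = 1 := by
      rw [← form_mul_left]; exact form_central _ _ _ (hsq _)
    change form _ _ _ _ = form _ _ _ _
    rw [form_swap hQZ lam (rep (E x)) (rep (E y))]
    exact eq_inv_of_mul_eq_one_left h2
  have hformθ : ∀ s t, form hQZ lam ((θ ^ a) s) ((θ ^ a) t) = form hQZ lam s t := fun s t => by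
    have h := hlam ⟨⁅s, t⁆, hQZ s t⟩ (by rw [map_commutatorElement]; exact hQZ _ _)
    refine Eq.trans ?_ h
    exact congrArg lam (Subtype.ext (map_commutatorElement (θ ^ a) s t).symm)
  have hBinv : ∀ x y, B (ζ ^ a * x) (ζ ^ a * y) = B x y := fun x y => by
    rw [hBmk (ζ ^ a * x) (ζ ^ a * y) ((θ ^ a) (rep (E x))) ((θ ^ a) (rep (E y))) (hEζk _ _).symm
      (hEζk _ _).symm, hformθ]
  set R' : AddSubgroup (Polynomial (ZMod 2) ⧸ I) :=
    { carrier := {x | ∀ y, B x y = 1}
      zero_mem' := fun y => by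
        have h := hBadd 0 0 y
        rw [add_zero] at h
        exact mul_right_cancel (h.symm.trans (one_mul _).symm)
      add_mem' := fun {x x'} hx hx' y => by rw [hBadd, hx y, hx' y, one_mul]
      neg_mem' := fun {x} hx y => by rw [CharTwo.neg_eq]; exact hx y } with hR'
  have hidx' : Nat.card ((Polynomial (ZMod 2) ⧸ I) ⧸ R') ≤ 2 ^ (2 * d) := by
    refine le_trans ?_ hidx
    have hsurjE : ∀ t, ∃ x, E x = mkU t := fun t => hEsurj _
    choose pre hpre using hsurjE
    have hpre_add : ∀ s t, pre (s * t) = pre s + pre t := fun s t => hEinj (by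
      rw [hEadd, hpre, hpre, hpre]; rfl)
    let ψ : Q →* Multiplicative ((Polynomial (ZMod 2) ⧸ I) ⧸ R') :=
      MonoidHom.mk' (fun t => Multiplicative.ofAdd (QuotientAddGroup.mk (pre t))) fun s t => by
        rw [hpre_add, QuotientAddGroup.mk_add]; rfl
    have hψ : Function.Surjective ψ := fun v => by
      obtain ⟨x, hx⟩ := QuotientAddGroup.mk_surjective (Multiplicative.toAdd v)
      refine ⟨rep (E x), ?_⟩
      change Multiplicative.ofAdd (QuotientAddGroup.mk (pre (rep (E x)))) = v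
      rw [show pre (rep (E x)) = x from hEinj (by rw [hpre, hrep]), hx]
      rfl
    rw [show Nat.card ((Polynomial (ZMod 2) ⧸ I) ⧸ R') = ψ.ker.index by
      rw [Subgroup.index_ker, MonoidHom.range_eq_top.2 hψ, Subgroup.card_top]; rfl]
    refine Nat.le_of_dvd (Nat.pos_of_ne_zero Subgroup.index_ne_zero_of_finite)
      (Subgroup.index_dvd_of_le fun r hr => MonoidHom.mem_ker.2 ?_)
    change Multiplicative.ofAdd (QuotientAddGroup.mk (pre r)) = 1
    rw [show (QuotientAddGroup.mk (pre r) : (Polynomial (ZMod 2) ⧸ I) ⧸ R') = 0 from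
      (QuotientAddGroup.eq_zero_iff _).2 fun y => by
        rw [hBmk (pre r) y r (rep (E y)) (hpre r).symm (hrep _), form_swap, hr, inv_one]]
    rfl
  have hBne : ∃ x y, B x y ≠ 1 := by
    obtain ⟨t, -, ht⟩ := SetLike.exists_of_lt (lt_top_iff_ne_top.2 hne)
    obtain ⟨u, hu⟩ := not_forall.1 ht
    obtain ⟨x, hx⟩ := hEsurj (mkU u)
    obtain ⟨y, hy⟩ := hEsurj (mkU t)
    exact ⟨x, y, by rw [hBmk x y u t hx.symm hy.symm]; exact hu⟩
  obtain ⟨x, y, hxy⟩ := prod_form_ne_one (hp.odd_of_ne_two hp2) hen he hd hh ζ hζn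
    hord B hBadd hBsym hBinv R' (fun x => Iff.rfl) hidx' hBne
  apply hxy
  -- the product along the orbit is invariant
  set L : (Subgroup.center Q) → A := fun c => ∏ i ∈ Finset.range a, lam ⟨(θ ^ i) (c : Q), hZθk i _ c.2⟩ with hL
  have hLmul : ∀ c c' : (Subgroup.center Q), L (c * c') = L c * L c' := fun c c' => by
    rw [hL]
    simp only [← Finset.prod_mul_distrib, ← map_mul]
    exact Finset.prod_congr rfl fun i _ => congrArg lam (Subtype.ext (by simp))
  have hLinv : ∀ c : (Subgroup.center Q), L ⟨θ (c : Q), hZθ _ c.2⟩ = L c := by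
    intro c
    have h : ∀ i, lam ⟨(θ ^ i) (θ (c : Q)), hZθk i _ (hZθ _ c.2)⟩ =
        lam ⟨(θ ^ (i + 1)) (c : Q), hZθk (i + 1) _ c.2⟩ := fun i =>
      congrArg lam (Subtype.ext (show (θ ^ i) (θ (c : Q)) = (θ ^ (i + 1)) (c : Q) by rw [pow_succ]; rfl))
    obtain ⟨b, hb⟩ : ∃ b, a = b + 1 := ⟨a - 1, by have := pow_pos hp.pos (n - e); omega⟩
    simp only [hL, h]
    rw [hb, Finset.prod_range_succ, Finset.prod_range_succ' _ b]
    congr 1
    have := hlam c (hZθk a _ c.2)
    simp only [← hb]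
    exact this.trans (congrArg lam (Subtype.ext rfl))
  have hL1 : ∀ c : (Subgroup.center Q), L c = 1 := fun c => by
    have hinj : Function.Injective fun z : (Subgroup.center Q) =>
        (⟨θ (z : Q) * (z : Q)⁻¹, (Subgroup.center Q).mul_mem (hZθ _ z.2) ((Subgroup.center Q).inv_mem z.2)⟩ : (Subgroup.center Q)) := fun z w h => by
      have h1 : θ (z : Q) * (z : Q)⁻¹ = θ (w : Q) * (w : Q)⁻¹ := congrArg Subtype.val h
      have hc := Subgroup.mem_center_iff.1 (hZθ _ w.2)
      have h' : θ ((z : Q) * (w : Q)⁻¹) = (z : Q) * (w : Q)⁻¹ := by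
        rw [map_mul, map_inv]
        calc θ (z : Q) * (θ (w : Q))⁻¹ = (θ (z : Q) * (z : Q)⁻¹) * (z : Q) * (θ (w : Q))⁻¹ := by group
          _ = θ (w : Q) * (w : Q)⁻¹ * (z : Q) * (θ (w : Q))⁻¹ := by rw [h1]
          _ = (w : Q)⁻¹ * (z : Q) := by
            rw [mul_assoc (θ (w : Q)), ← hc ((w : Q)⁻¹ * (z : Q)), mul_inv_cancel_right]
          _ = (z : Q) * (w : Q)⁻¹ := (Subgroup.mem_center_iff.1 z.2 (w : Q)⁻¹)
      exact Subtype.ext (mul_inv_eq_one.1 (hfpf _ h'))
    obtain ⟨w, rfl⟩ := Finite.surjective_of_injective hinj c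
    have h := hLmul ⟨θ (w : Q), hZθ _ w.2⟩ w⁻¹
    rw [hLinv, ← hLmul, mul_inv_cancel] at h
    change L _ = 1
    refine h.trans ?_
    have h1 := hLmul 1 1
    rw [mul_one] at h1
    exact mul_right_cancel (h1.symm.trans (one_mul _).symm)
  rw [← hL1 ⟨⁅rep (E x), rep (E y)⁆, hQZ _ _⟩, hL]
  refine Finset.prod_congr rfl fun i _ => ?_
  rw [hBmk _ _ ((θ ^ i) (rep (E x))) ((θ ^ i) (rep (E y))) (hEζk _ _).symm (hEζk _ _).symm]
  exact congrArg lam (Subtype.ext (map_commutatorElement (θ ^ i) (rep (E x)) (rep (E y))).symm)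

end Cfsg.Agent.ShultGross
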