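import Mathlib.FieldTheory.Finite.Basic
import Mathlib.FieldTheory.Finite.GaloisField
import Mathlib.RingTheory.Trace.Basic
import Mathlib.LinearAlgebra.LinearIndependent.Lemmas
import Mathlib.Algebra.CharP.Lemmas
import Mathlib.Tactic

/-! A form on a finite field of characteristic two which is invariant under a power of a root of
unity with odd index does not cancel along the orbit of the root. -/

set_option autoImplicit false

namespace Cfsg.Agent.ShultGross

theorem dvd_pow_add_one {p : ℕ} (hodd : Odd p) {j : ℕ} (hj : 1 ≤ j) :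
    ∀ (k : ℕ) {a : ℤ}, (p : ℤ) ^ j ∣ a + 1 → (p : ℤ) ^ (j + k) ∣ a ^ p ^ k + 1 := by
  intro k
  induction k with
  | zero => intro a h; simpa using h
  | succ k ih =>
    intro a h
    have h1 := ih h
    set b := a ^ p ^ k with hb
    have hgeom : (∑ i ∈ Finset.range p, (-b) ^ i) * (-b - 1) = (-b) ^ p - 1 := geom_sum_mul _ _
    have hdiv : (p : ℤ) ∣ ∑ i ∈ Finset.range p, (-b) ^ i := by
      rw [← ZMod.intCast_zmod_eq_zero_iff_dvd]
      have hb1 : (((-b : ℤ)) : ZMod p) = 1 := by
        have : ((b + 1 : ℤ) : ZMod p) = 0 := (ZMod.intCast_zmod_eq_zero_iff_dvd _ _).2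
          ((dvd_pow_self (p : ℤ) (by omega)).trans h1)
        push_cast at this ⊢
        linear_combination -this
      rw [Int.cast_sum]
      simp only [Int.cast_pow, hb1, one_pow, Finset.sum_const, Finset.card_range, nsmul_eq_mul,
        mul_one, ZMod.natCast_self]
    have he : b ^ p + 1 = (∑ i ∈ Finset.range p, (-b) ^ i) * (b + 1) := by
      have := hgeom
      rw [hodd.neg_pow] at this
      linear_combination this
    rw [pow_succ p k, pow_mul, ← hb, he, ← add_assoc, pow_succ']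
    exact mul_dvd_mul hdiv h1

theorem two_mul_le_of_dvd {h d k : ℕ} (hd : 1 ≤ d) (hh : h = 2 ^ d + 1) (hk : 1 ≤ k)
    (hdvd : h ∣ 2 ^ k - 1) : 2 * d ≤ k := by
  have h2 : 2 ≤ 2 ^ k := Nat.le_self_pow (by omega) 2
  by_contra hlt
  push Not at hlt
  rcases le_or_gt k d with hkd | hkd
  · have := Nat.le_of_dvd (by omega) hdvd
    have := Nat.pow_le_pow_right (show 0 < 2 by norm_num) hkd
    omega
  · obtain ⟨c, rfl⟩ := Nat.exists_eq_add_of_le hkd.le
    have hc : 2 ^ c < 2 ^ d := Nat.pow_lt_pow_right (by norm_num) (by omega)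
    have hd' : h ∣ 2 ^ c + 1 := by
      have h1 : h ∣ 2 ^ c * h := dvd_mul_left _ _
      have e : 2 ^ c * h = (2 ^ (d + c) - 1) + (2 ^ c + 1) := by
        have : 2 ^ c * h = 2 ^ (d + c) + 2 ^ c := by rw [hh, pow_add]; ring
        omega
      rw [e] at h1
      exact (Nat.dvd_add_right hdvd).1 h1
    have := Nat.le_of_dvd (by positivity) hd'
    omega

variable {L : Type*} [Field L] [Finite L] [CharP L 2] {A : Type*} [CommGroup A]

theorem prod_form_ne_one {p n e d : ℕ} (hpodd : Odd p) (hen : e ≤ n) (he : 1 ≤ e)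
    (hd : 1 ≤ d) (hh : p ^ e = 2 ^ d + 1) (ζ : L) (hζ : ζ ^ p ^ n = 1)
    (hord : orderOf (ζ ^ p ^ (n - e)) = p ^ e) (B : L → L → A)
    (hadd : ∀ x x' y, B (x + x') y = B x y * B x' y) (hsym : ∀ x y, B x y = B y x)
    (hinv : ∀ x y, B (ζ ^ p ^ (n - e) * x) (ζ ^ p ^ (n - e) * y) = B x y)
    (R : AddSubgroup L) (hR : ∀ x, x ∈ R ↔ ∀ y, B x y = 1)
    (hidx : Nat.card (L ⧸ R) ≤ 2 ^ (2 * d)) (hne : ∃ x y, B x y ≠ 1) :
    ∃ x y, ∏ i ∈ Finset.range (p ^ (n - e)), B (ζ ^ i * x) (ζ ^ i * y) ≠ 1 := by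
  classical
  haveI : Fact (Nat.Prime 2) := ⟨Nat.prime_two⟩
  by_contra hall
  push Not at hall
  set a := p ^ (n - e) with ha
  set ω := ζ ^ a with hω
  set Q := 2 ^ d with hQ
  have hadd' : ∀ x y y', B x (y + y') = B x y * B x y' := fun x y y' => by
    rw [hsym x, hadd, hsym y, hsym y']
  have hB0 : ∀ y, B 0 y = 1 := fun y => by
    have := hadd 0 0 y
    rw [add_zero] at this
    exact mul_right_cancel (this.symm.trans (one_mul _).symm)
  -- the field of the invariant multipliers
  have hωQ : ω ^ (Q + 1) = 1 := by rw [← hh, ← hord, pow_orderOf_eq_one]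
  have hω0 : ω ≠ 0 := fun h0 => by rw [h0, zero_pow (Nat.succ_ne_zero _)] at hωQ; exact zero_ne_one hωQ
  have hQQ : (4 : ℕ) ^ d = Q * Q := by rw [hQ, ← mul_pow]; norm_num
  let M : Subfield L :=
    { carrier := {m | m ^ (4 ^ d) = m ∧ ∀ x y, B (m * x) y = B x (m ^ Q * y)}
      zero_mem' := ⟨zero_pow (by positivity), fun x y => by
        rw [zero_pow (by positivity), zero_mul, zero_mul, hB0, hsym, hB0]⟩
      one_mem' := ⟨one_pow _, fun x y => by rw [one_pow, one_mul, one_mul]⟩
      add_mem' := fun {m m'} hm hm' => ⟨by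
        rw [show (4 : ℕ) ^ d = 2 ^ (2 * d) by rw [pow_mul]; norm_num] at hm hm' ⊢
        rw [add_pow_char_pow, hm.1, hm'.1], fun x y => by
        rw [add_mul, hadd, hm.2, hm'.2, hQ, add_pow_char_pow, add_mul, hadd']⟩
      mul_mem' := fun {m m'} hm hm' => ⟨by rw [mul_pow, hm.1, hm'.1], fun x y => by
        rw [mul_assoc, hm.2, hm'.2, ← mul_assoc, mul_pow, mul_comm (m' ^ Q)]⟩
      neg_mem' := fun {m} hm => by rwa [CharTwo.neg_eq]
      inv_mem' := fun m hm => by
        refine ⟨by rw [inv_pow, hm.1], fun x y => ?_⟩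
        by_cases h0 : m = 0
        · rw [h0, inv_zero, zero_pow (by positivity), zero_mul, zero_mul, hB0, hsym, hB0]
        · have := hm.2 (m⁻¹ * x) ((m ^ Q)⁻¹ * y)
          rw [← mul_assoc, mul_inv_cancel₀ h0, one_mul, ← mul_assoc,
            mul_inv_cancel₀ (pow_ne_zero _ h0), one_mul] at this
          rw [inv_pow, this] }
  have hωM : ω ∈ M := by
    refine ⟨?_, fun x y => ?_⟩
    · rw [hQQ]
      obtain ⟨c, hc⟩ : ∃ c, Q * Q = (Q + 1) * c + 1 := ⟨Q - 1, by
        have : 2 ≤ Q := by rw [hQ]; exact Nat.le_self_pow (by omega) 2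
        obtain ⟨k, hk⟩ := Nat.exists_eq_add_of_le this
        rw [hk, show 2 + k - 1 = k + 1 by omega]; ring⟩
      rw [hc, pow_succ, pow_mul, hωQ, one_pow, one_mul]
    · have := hinv x (ω⁻¹ * y)
      rw [← mul_assoc, mul_inv_cancel₀ hω0, one_mul] at this
      rw [this]
      congr 2
      exact (inv_eq_of_mul_eq_one_left (by rw [← pow_succ, hωQ]))
  have hcardM : 2 ^ (2 * d) ≤ Nat.card M := by
    haveI : Fintype M := Fintype.ofFinite _
    obtain ⟨k, -, hk⟩ := FiniteField.card M 2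
    rw [Nat.card_eq_fintype_card, hk]
    refine Nat.pow_le_pow_right (by norm_num) (two_mul_le_of_dvd hd hh k.2 ?_)
    rw [← hk, ← hord]
    have h1 : (⟨ω, hωM⟩ : M) ≠ 0 := fun h => hω0 (congrArg Subtype.val h)
    have h2 := FiniteField.pow_card_sub_one_eq_one _ h1
    exact orderOf_dvd_of_pow_eq_one (congrArg Subtype.val h2)
  have hMR : ∀ m : M, ∀ r ∈ R, (m : L) * r ∈ R := fun m r hr =>
    (hR _).2 fun y => by rw [m.2.2, (hR r).1 hr]
  obtain ⟨y₀, hy₀⟩ : ∃ y, y ∉ R := by
    obtain ⟨x, y, hxy⟩ := hne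
    exact ⟨x, fun hx => hxy ((hR x).1 hx y)⟩
  have hinj : Function.Injective fun m : M => (QuotientAddGroup.mk ((m : L) * y₀) : L ⧸ R) := by
    intro m m' hmm
    by_contra hne'
    have h1 : ((m' - m : M) : L) * y₀ ∈ R := by
      have := QuotientAddGroup.eq.1 hmm
      rw [neg_add_eq_sub, ← sub_mul] at this
      exact this
    have h2 := hMR (m' - m)⁻¹ _ h1
    rw [← mul_assoc, Subfield.coe_inv, inv_mul_cancel₀, one_mul] at h2
    · exact hy₀ h2
    · intro h0
      exact hne' (sub_eq_zero.1 (Subtype.ext h0 : (m' - m : M) = 0)).symm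
  have hsurj := (hinj.bijective_of_nat_card_le (hidx.trans hcardM)).2
  have hsplit : ∀ x, ∃ m : M, x - (m : L) * y₀ ∈ R := fun x => by
    obtain ⟨m, hm⟩ := hsurj (QuotientAddGroup.mk x)
    refine ⟨m, ?_⟩
    have := QuotientAddGroup.eq.1 hm
    rwa [neg_add_eq_sub] at this
  choose φ hφ using hsplit
  have huniq : ∀ x (m : M), x - (m : L) * y₀ ∈ R → φ x = m := fun x m hm => hinj (by
    refine QuotientAddGroup.eq.2 ?_
    rw [neg_add_eq_sub]
    have := R.sub_mem (hφ x) hm
    rwa [sub_sub_sub_cancel_left] at this)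
  let φl : L →ₗ[M] M :=
    { toFun := φ
      map_add' := fun x y => huniq _ _ (by
        have := R.add_mem (hφ x) (hφ y)
        rw [Subfield.coe_add, add_mul]
        convert this using 1; ring)
      map_smul' := fun m x => huniq _ _ (by
        have := hMR m _ (hφ x)
        rw [RingHom.id_apply, smul_eq_mul, Subfield.coe_mul]
        convert this using 1
        rw [Algebra.smul_def, mul_sub, mul_assoc]; rfl) }
  -- the form through `φ`
  set ℓ : M → A := fun m => B y₀ ((m : L) * y₀) with hℓ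
  have hBφ : ∀ x y, B x y = ℓ ((φ x) ^ Q * φ y) := by
    intro x y
    have h1 : B x y = B ((φ x : L) * y₀) y := by
      conv_lhs => rw [show x = (x - (φ x : L) * y₀) + (φ x : L) * y₀ by ring]
      rw [hadd, (hR _).1 (hφ x), one_mul]
    have h2 : B ((φ x : L) * y₀) y = B ((φ x : L) * y₀) ((φ y : L) * y₀) := by
      conv_lhs => rw [show y = (y - (φ y : L) * y₀) + (φ y : L) * y₀ by ring]
      rw [hadd', hsym _ (y - _), (hR _).1 (hφ y), one_mul]
    rw [h1, h2, (φ x).2.2, hℓ]
    simp only [Subfield.coe_mul, SubmonoidClass.coe_pow, mul_assoc]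
  have hℓsum : ∀ (s : Finset ℕ) (f : ℕ → M), ℓ (∑ i ∈ s, f i) = ∏ i ∈ s, ℓ (f i) := by
    intro s f
    induction s using Finset.induction_on with
    | empty => simp [hℓ, hsym y₀ 0, hB0]
    | insert i s hi ih =>
      rw [Finset.sum_insert hi, Finset.prod_insert hi, ← ih]
      simp only [hℓ, Subfield.coe_add, add_mul, hadd']
  set S : L → L → M := fun x y => ∑ i ∈ Finset.range a, (φ (ζ ^ i * x)) ^ Q * φ (ζ ^ i * y) with hS
  have hℓS : ∀ x y, ℓ (S x y) = 1 := fun x y => by
    simp only [hS, hℓsum, ← hBφ]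
    exact hall x y
  have hS0 : ∀ x y, S x y = 0 := by
    intro x y
    by_contra h0
    obtain ⟨x', y', hxy⟩ := hne
    apply hxy
    rw [hBφ]
    set m : M := ((φ x') ^ Q * φ y') * (S x y)⁻¹ with hm
    have h1 : S x ((m : L) * y) = m * S x y := by
      simp only [hS, Finset.mul_sum]
      refine Finset.sum_congr rfl fun i _ => ?_
      rw [show ζ ^ i * ((m : L) * y) = m • (ζ ^ i * y) by
        rw [Subfield.smul_def, smul_eq_mul]; ring]
      rw [show φ (m • (ζ ^ i * y)) = m * φ (ζ ^ i * y) from φl.map_smul m _]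
      ring
    have h2 := hℓS x ((m : L) * y)
    rwa [h1, hm, mul_assoc, inv_mul_cancel₀ h0, mul_one] at h2
  -- the trace
  haveI : Module.Finite M L := Module.Finite.of_finite
  have hnd := traceForm_nondegenerate M L
  set c := ((Algebra.traceForm M L).toDual hnd).symm φl with hc
  have hφc : ∀ x, φ x = Algebra.trace M L (c * x) := fun x => by
    have := LinearMap.congr_fun (((Algebra.traceForm M L).toDual hnd).apply_symm_apply φl) x
    rw [LinearMap.BilinForm.toDual_def, Algebra.traceForm_apply] at this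
    exact this.symm
  have hc0 : c ≠ 0 := by
    intro h0
    have h1 := huniq y₀ 1 (by simp)
    rw [hφc, h0, zero_mul, map_zero] at h1
    exact zero_ne_one h1
  have hexp : ∀ x y, ∑ g : L ≃ₐ[M] L, (∑ i ∈ Finset.range a,
      (g ζ ^ Q) ^ i * ∑ g' : L ≃ₐ[M] L, g' ζ ^ i * g' y) * g x ^ Q = 0 := by
    intro x y
    have h := congrArg (algebraMap M L) (hS0 (c⁻¹ * x) (c⁻¹ * y))
    rw [map_zero] at h
    simp only [hS, hφc, map_sum, map_mul, map_pow, ← mul_assoc c, mul_comm c (ζ ^ _),
      mul_assoc (ζ ^ _) c, ← mul_assoc c c⁻¹, mul_inv_cancel₀ hc0, one_mul,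
      trace_eq_sum_automorphisms] at h
    rw [← h]
    simp only [Finset.sum_mul]
    rw [Finset.sum_comm]
    refine Finset.sum_congr rfl fun i _ => ?_
    rw [sum_pow_char_pow, Finset.sum_mul]
    refine Finset.sum_congr rfl fun g _ => ?_
    simp only [map_mul, map_pow, mul_pow, ← pow_mul, mul_comm i Q]
    ring
  have hinjQ : Function.Injective fun z : L => z ^ Q := fun z z' h => by
    refine (iterateFrobenius_inj L 2 d) ?_
    simpa [iterateFrobenius_def, hQ] using h
  have hli : LinearIndependent L fun g : L ≃ₐ[M] L =>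
      (((powMonoidHom Q).comp (g : L →* L) : L →* L) : L → L) := by
    refine (linearIndependent_monoidHom L L).comp _ fun g g' hgg => AlgEquiv.ext fun z => hinjQ ?_
    exact DFunLike.congr_fun hgg z
  have hli' : LinearIndependent L fun g : L ≃ₐ[M] L => ((g : L →* L) : L → L) := by
    refine (linearIndependent_monoidHom L L).comp _ fun g g' hgg => AlgEquiv.ext fun z => ?_
    exact DFunLike.congr_fun hgg z
  have hcoef : ∀ (g : L ≃ₐ[M] L) (y : L), ∑ i ∈ Finset.range a,
      (g ζ ^ Q) ^ i * ∑ g' : L ≃ₐ[M] L, g' ζ ^ i * g' y = 0 := fun g y =>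
    Fintype.linearIndependent_iff.1 hli (fun g => ∑ i ∈ Finset.range a,
      (g ζ ^ Q) ^ i * ∑ g' : L ≃ₐ[M] L, g' ζ ^ i * g' y) (funext fun x => by
        simpa [Finset.sum_apply] using hexp x y) g
  have hcoef' : ∀ g g' : L ≃ₐ[M] L, ∑ i ∈ Finset.range a, (g ζ ^ Q) ^ i * g' ζ ^ i = 0 := fun g g' =>
    Fintype.linearIndependent_iff.1 hli'
      (fun g' : L ≃ₐ[M] L => ∑ i ∈ Finset.range a, (g ζ ^ Q) ^ i * g' ζ ^ i) (funext fun y => by
        have h := hcoef g y
        simp only [Finset.mul_sum, ← mul_assoc] at h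
        rw [Finset.sum_comm] at h
        simpa [Finset.sum_apply, Finset.sum_mul] using h) g'
  -- a Frobenius power inverting `ζ`
  have haodd : Odd a := hpodd.pow
  obtain ⟨t, ht⟩ := haodd
  let F : L →+* L := iterateFrobenius L 2 (2 * d * t)
  have hF : ∀ z, F z = z ^ 2 ^ (2 * d * t) := fun z => iterateFrobenius_def 2 _ z
  have hFM : ∀ m : M, F (m : L) = m := fun m => by
    rw [hF, show (2 : ℕ) ^ (2 * d * t) = (4 ^ d) ^ t by rw [pow_mul, pow_mul]; norm_num]
    clear_value F
    clear hF ht F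
    induction t with
    | zero => simp
    | succ t ih => rw [pow_succ, pow_mul, ih, m.2.1]
  let g : L ≃ₐ[M] L := AlgEquiv.ofBijective { F with commutes' := fun m => hFM m }
    ⟨F.injective, Finite.injective_iff_surjective.1 F.injective⟩
  have hg : g ζ = ζ ^ 2 ^ (2 * d * t) := hF ζ
  have hkey : g ζ ^ Q * ζ = 1 := by
    rw [hg, ← pow_mul, ← pow_succ]
    have hdv : p ^ n ∣ 2 ^ (2 * d * t) * Q + 1 := by
      have h := dvd_pow_add_one hpodd he (n - e) (a := ((2 ^ d : ℕ) : ℤ)) (by
        exact_mod_cast (show p ^ e ∣ 2 ^ d + 1 by rw [hh]))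
      rw [show e + (n - e) = n by omega, ← ha, ht] at h
      rw [← Int.natCast_dvd_natCast, hQ]
      push_cast at h ⊢
      convert h using 1
      rw [← pow_add, ← pow_mul]
      ring_nf
    obtain ⟨k, hk⟩ := hdv
    rw [hk, pow_mul, hζ, one_pow]
  have h := hcoef' g 1
  simp only [AlgEquiv.one_apply, ← mul_pow, hkey, one_pow, Finset.sum_const, Finset.card_range,
    nsmul_eq_mul, mul_one] at h
  rw [ht] at h
  push_cast at h
  rw [show (2 : L) = 0 from CharTwo.two_eq_zero, zero_mul, zero_add] at h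
  exact one_ne_zero h

end Cfsg.Agent.ShultGross
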