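import Cfsg.Agent.Lib.ShultGross.Core

/-! The reduction to forms. -/

set_option autoImplicit false
open scoped commutatorElement

open Module

universe u

namespace Cfsg.Agent.ShultGross

variable {K : Type*} [Field K] [IsAlgClosed K] {V : Type*} [AddCommGroup V] [Module K V]
  [FiniteDimensional K V] {p q n : ℕ}

theorem faithful_case {Q : Type u} [Group Q] [Finite Q] (hp : p.Prime) (hp2 : p ≠ 2) (hq : q.Prime)
    (hqp : q ≠ p) (hn : 1 ≤ n) (hqK : (q : K) ≠ 0) (hpK : (p : K) ≠ 0) (hQ : IsPGroup q Q)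
    (θ : MulAut Q) (hθ : θ ^ p ^ n = 1) (hfpf : ∀ t, θ t = t → t = 1)
    (τ : Q →* Module.End K V) (hτ : Function.Injective τ) (X : Module.End K V)
    (hX : X ^ p ^ n = 1) (hsum : ∑ i ∈ Finset.range (p ^ n), X ^ i = 0)
    (hconj : ∀ t, X * τ t = τ (θ t) * X)
    (hsmall : ∀ D : Subgroup Q, D ≠ ⊤ → (∀ t ∈ D, θ t ∈ D) → ∀ t ∈ D, (θ ^ p ^ (n - 1)) t = t) :
    ∀ t, (θ ^ p ^ (n - 1)) t = t := by
  classical
  haveI := Fact.mk hp
  haveI := Fact.mk hq
  by_contra hne
  push Not at hne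
  obtain ⟨t₀, ht₀⟩ := hne
  set y : MulAut Q := θ ^ p ^ (n - 1) with hy
  have hyθ : ∀ t, θ (y t) = y (θ t) := fun t => by
    rw [hy, ← MulAut.mul_apply, ← MulAut.mul_apply, ← pow_succ', ← pow_succ]
  have hyp : y ^ p = 1 := by
    rw [hy, ← pow_mul, ← pow_succ, Nat.sub_add_cancel hn, hθ]
  obtain ⟨e₀, he₀⟩ := hQ.exists_card_eq
  have hcop : (Nat.card Q).Coprime p := by
    rw [he₀]; exact ((Nat.coprime_primes hq hp).2 hqp).pow_left e₀
  have hQK : (Nat.card Q : K) ≠ 0 := by rw [he₀, Nat.cast_pow]; exact pow_ne_zero _ hqK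
  have hdelta : ∀ t, y (y t * t⁻¹) = y t * t⁻¹ → y t = t := fun t =>
    CoprimeFree.fixed_of_delta_fixed (hr := Fact.mk hp) y hyp hcop
  set Dy := Subgroup.closure (Set.range fun t : Q => y t * t⁻¹) with hDy
  have hDtop : Dy = ⊤ := by
    by_contra hD
    refine ht₀ (hdelta _ (hsmall Dy hD (fun s hs => ?_) _ (Subgroup.subset_closure ⟨_, rfl⟩)))
    have h : Dy.map θ.toMonoidHom ≤ Dy := by
      rw [hDy, MonoidHom.map_closure, Subgroup.closure_le]
      rintro _ ⟨_, ⟨t, rfl⟩, rfl⟩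
      exact Subgroup.subset_closure ⟨θ t, by simp [hyθ]⟩
    exact h (Subgroup.mem_map_of_mem θ.toMonoidHom hs)
  have hcen : ∀ D : Subgroup Q, D.Normal → D ≠ ⊤ → (∀ t ∈ D, θ t ∈ D) → D ≤ Subgroup.center Q := by
    intro D hDn hD hinv d hd
    have hfx := hsmall D hD hinv
    refine Subgroup.mem_center_iff.2 fun g => ?_
    have hle : Dy ≤ Subgroup.centralizer ({d} : Set Q) := by
      rw [hDy, Subgroup.closure_le]
      rintro _ ⟨t, rfl⟩
      refine Subgroup.mem_centralizer_iff.2 fun z hz => ?_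
      rw [Set.mem_singleton_iff.1 hz]
      have h := hfx _ (hDn.conj_mem d hd t⁻¹)
      rw [map_mul, map_mul, map_inv, hfx d hd, inv_inv] at h
      have h2 := congrArg (fun z => y t * z * t⁻¹) h
      simp only [mul_assoc, mul_inv_cancel_left, mul_inv_cancel, mul_one] at h2
      simpa [mul_assoc] using h2
    exact (Subgroup.mem_centralizer_iff.1 (hle (hDtop ▸ Subgroup.mem_top g)) d rfl).symm
  set Z := Subgroup.center Q with hZdef
  have hZθ : ∀ z ∈ Z, θ z ∈ Z := fun z hz => Subgroup.mem_center_iff.2 fun w => by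
    obtain ⟨w', rfl⟩ := θ.surjective w
    rw [← map_mul, ← map_mul, Subgroup.mem_center_iff.1 hz w']
  have hZθ' : ∀ z, θ z ∈ Z → z ∈ Z := fun z hz => Subgroup.mem_center_iff.2 fun w => by
    refine θ.injective ?_
    rw [map_mul, map_mul, Subgroup.mem_center_iff.1 hz (θ w)]
  -- the weight
  have hz₀ : ∃ z : Subgroup.center Q, (z : Q) ≠ 1 ∧ ((∀ a b : Q, a * b = b * a) → (z : Q) = y t₀ * t₀⁻¹) ∧
      (¬ (∀ a b : Q, a * b = b * a) → ∃ a b : Q, (z : Q) = ⁅a, b⁆) := by
    by_cases hab : ∀ a b : Q, a * b = b * a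
    · exact ⟨⟨y t₀ * t₀⁻¹, Subgroup.mem_center_iff.2 fun w => hab w _⟩,
        fun h => ht₀ (mul_inv_eq_one.1 h), fun _ => rfl, fun h => absurd hab h⟩
    · push Not at hab
      obtain ⟨a, b, hab⟩ := hab
      have hZtop : Subgroup.center Q ≠ ⊤ := fun h => hab
        (Subgroup.mem_center_iff.1 (show b ∈ Subgroup.center Q from h ▸ Subgroup.mem_top b) a)
      have : Group.IsNilpotent Q := hQ.isNilpotent
      have : Nontrivial Q := ⟨⟨_, _, ht₀⟩⟩
      have h := hcen (commutator Q) inferInstance (Group.IsSolvable.commutator_lt_top_of_nontrivial Q).ne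
        (fun s hs => by
          have h : (commutator Q).map θ.toMonoidHom ≤ commutator Q := by
            rw [commutator_def, Subgroup.map_commutator]
            exact Subgroup.commutator_mono le_top le_top
          exact h (Subgroup.mem_map_of_mem θ.toMonoidHom hs))
      exact ⟨⟨⁅a, b⁆, h (Subgroup.commutator_mem_commutator (Subgroup.mem_top a) (Subgroup.mem_top b))⟩,
        fun h => hab (commutatorElement_eq_one_iff_mul_comm.1 h), fun h => absurd (h a b) hab,
        fun _ => ⟨a, b, rfl⟩⟩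
  obtain ⟨z₀, hz₀1, hzab, hznab⟩ := hz₀
  obtain ⟨W, lam, hW0, hWi, hWmin, hlz, hlW⟩ := exists_weight hQK τ z₀
    (fun h => hz₀1 (hτ (by rw [h, map_one])))
  obtain ⟨w₀, hw₀W, hw₀⟩ := (Submodule.ne_bot_iff W).1 hW0
  set lf : Q → K := fun t => if h : t ∈ Z then (lam ⟨t, h⟩ : K) else 0 with hlf
  have hlfv : ∀ s ∈ Z, ∀ v ∈ W, τ s v = lf s • v := fun s hs v hv => by
    rw [hlf]; simp only [dif_pos hs]; exact hlW ⟨s, hs⟩ v hv
  have hvec : ∀ (a b : K), a • w₀ = b • w₀ → a = b := fun a b h => smul_left_injective K hw₀ h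
  obtain ⟨j, hjn, hja, hjdist, hjdvd⟩ := exists_orbit hp θ hθ Z hZθ lf
  have hsum1 : ∀ v, (∀ s ∈ Z, τ s v = lf s • v) →
      ∑ k ∈ Finset.range (p ^ (n - j)), ((X ^ p ^ j) ^ k) v = 0 := by
    intro v hv
    simp only [← pow_mul]
    refine grouping τ X θ hconj Z hZθ hZθ' lf (p ^ j) (p ^ (n - j)) (Nat.one_le_pow _ _ hp.pos)
      hja hjdist v hv ?_
    rw [← pow_add, Nat.add_sub_cancel' hjn, ← LinearMap.sum_apply, hsum, LinearMap.zero_apply]
  have hjlt : j < n := by
    by_contra hcon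
    have h := hsum1 w₀ (fun s hs => hlfv s hs w₀ hw₀W)
    rw [show j = n by omega, Nat.sub_self, pow_zero, Finset.sum_range_one, pow_zero] at h
    exact hw₀ h
  have hlamy : ∀ s (hs : s ∈ Z) (hys : y s ∈ Z), lam ⟨y s, hys⟩ = lam ⟨s, hs⟩ := by
    intro s hs hys
    have h := invariant_pow_mul hZθ hja (p ^ (n - 1 - j)) s hs
    rw [← pow_add, show j + (n - 1 - j) = n - 1 by omega, ← hy, hlf] at h
    simp only [dif_pos hs, dif_pos hys] at h
    exact Units.ext h
  have hnab : ¬ ∀ a b : Q, a * b = b * a := by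
    intro hab
    apply hlz
    have hmem : ∀ t : Q, t ∈ Z := fun t => Subgroup.mem_center_iff.2 fun w => hab w t
    rw [show z₀ = ⟨y t₀, hmem _⟩ * ⟨t₀, hmem _⟩⁻¹ from Subtype.ext (hzab hab), map_mul, map_inv,
      hlamy t₀ (hmem _) (hmem _), mul_inv_cancel]
  obtain ⟨a₁, b₁, hz₀c⟩ := hznab hnab
  have hZtop : Z ≠ ⊤ := fun h => hnab fun a b =>
    Subgroup.mem_center_iff.1 (show b ∈ Z from h ▸ Subgroup.mem_top b) a
  have hQZ : ∀ w t : Q, ⁅w, t⁆ ∈ Z := by
    have : Group.IsNilpotent Q := hQ.isNilpotent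
    have : Nontrivial Q := ⟨⟨_, _, ht₀⟩⟩
    have h := hcen (commutator Q) inferInstance (Group.IsSolvable.commutator_lt_top_of_nontrivial Q).ne
      (fun s hs => by
        have h : (commutator Q).map θ.toMonoidHom ≤ commutator Q := by
          rw [commutator_def, Subgroup.map_commutator]
          exact Subgroup.commutator_mono le_top le_top
        exact h (Subgroup.mem_map_of_mem θ.toMonoidHom hs))
    exact fun w t => h (Subgroup.commutator_mem_commutator (Subgroup.mem_top w) (Subgroup.mem_top t))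
  have hirrQ : ∀ D : Subgroup Q, Z ≤ D → (∀ t ∈ D, θ t ∈ D) → D = Z ∨ D = ⊤ := by
    intro D hZD hinv
    refine or_iff_not_imp_right.2 fun hD => le_antisymm (hcen D ⟨fun t ht g => ?_⟩ hD hinv) hZD
    rw [show g * t * g⁻¹ = ⁅g, t⁆ * t by rw [commutatorElement_def]; group]
    exact D.mul_mem (hZD (hQZ g t)) ht
  have hyZ : ∀ t, y t * t⁻¹ ∈ Z → t ∈ Z := by
    let π := QuotientGroup.mk' Z
    let T : Subgroup Q :=
      { carrier := {t | π (y t) = π t}
        one_mem' := by simp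
        mul_mem' := fun {a b} ha hb => by
          change π (y (a * b)) = π (a * b)
          rw [map_mul, map_mul, map_mul, ha, hb]
        inv_mem' := fun {a} ha => by
          change π (y a⁻¹) = π a⁻¹
          rw [map_inv, map_inv, map_inv, ha] }
    have hiff : ∀ t, t ∈ T ↔ y t * t⁻¹ ∈ Z := fun t => by
      change π _ = π _ ↔ _
      rw [← QuotientGroup.eq_one_iff, ← mul_inv_eq_one, ← map_inv, ← map_mul]
      rfl
    have hfix : ∀ t ∈ T, y t = t := fun t ht => hdelta t (hsmall Z hZtop hZθ _ ((hiff t).1 ht))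
    intro t ht
    rcases hirrQ T (fun z hz => (hiff z).2 (by rw [hsmall Z hZtop hZθ z hz, mul_inv_cancel]; exact Z.one_mem))
      (fun t ht => (hiff _).2 (by
        rw [← hyθ, ← map_inv, ← map_mul]
        exact hZθ _ ((hiff t).1 ht))) with h | h
    · exact h ▸ (hiff t).2 ht
    · exact absurd (hfix t₀ (h ▸ Subgroup.mem_top t₀)) ht₀
  -- the radical
  set R := radical hQZ lam with hRdef
  have hZR : Z ≤ R := fun c hc w => by rw [form_swap, form_central _ _ _ hc, inv_one]
  set θ₁ : MulAut Q := θ ^ p ^ j with hθ₁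
  have hθk : ∀ (k : ℕ), ∀ s ∈ Z, (θ ^ k) s ∈ Z := by
    intro k
    induction k with
    | zero => intro s hs; simpa using hs
    | succ k ih => intro s hs; rw [pow_succ', MulAut.mul_apply]; exact hZθ _ (ih s hs)
  have hlam1 : ∀ (c : Subgroup.center Q) (h : θ₁ (c : Q) ∈ Subgroup.center Q),
      lam ⟨_, h⟩ = lam c := by
    intro c h
    have := hja _ c.2
    have hcZ : (c : Q) ∈ Z := c.2
    have hcZ' : θ₁ (c : Q) ∈ Z := h
    rw [hlf] at this
    simp only [dif_pos hcZ, dif_pos hcZ'] at this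
    exact Units.ext this
  have hform1 : ∀ s t, form hQZ lam (θ₁ s) (θ₁ t) = form hQZ lam s t := fun s t => by
    refine Eq.trans ?_ (hlam1 ⟨⁅s, t⁆, hQZ s t⟩ (by rw [map_commutatorElement]; exact hQZ _ _))
    exact congrArg lam (Subtype.ext (map_commutatorElement θ₁ s t).symm)
  have hR1 : ∀ t ∈ R, θ₁ t ∈ R := fun t ht w => by
    obtain ⟨w', rfl⟩ := θ₁.surjective w
    rw [hform1]; exact ht w'
  have hR1' : ∀ t, θ₁ t ∈ R → t ∈ R := fun t ht w => by rw [← hform1]; exact ht (θ₁ w)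
  have hcommW : ∀ (r : Q), r ∈ R → ∀ (t : Q) (v : V), v ∈ W → τ r (τ t v) = τ t (τ r v) := by
    intro r hr t v hv
    have h1 : τ (⁅r, t⁆ : Q) v = v := by
      rw [hlW ⟨⁅r, t⁆, hQZ r t⟩ v hv, show lam ⟨⁅r, t⁆, hQZ r t⟩ = 1 by
        have := hr t
        rw [form_swap] at this
        exact inv_eq_one.1 (by simpa [form] using this)]
      simp
    rw [← Module.End.mul_apply, ← Module.End.mul_apply, ← map_mul, ← map_mul,
      show r * t = t * r * ⁅r, t⁆ by
        rw [Subgroup.mem_center_iff.1 (hQZ r t) (t * r), commutatorElement_def]; group,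
      map_mul, Module.End.mul_apply, h1]
  haveI : Nontrivial W := Submodule.nontrivial_iff_ne_bot.2 hW0
  let σ : Q →* Module.End K W :=
    { toFun := fun t => (τ t).restrict (hWi t)
      map_one' := LinearMap.ext fun w => Subtype.ext (by simp)
      map_mul' := fun a b => LinearMap.ext fun w => Subtype.ext (by simp) }
  have hirr : ∀ U : Submodule K W, (∀ t, ∀ v ∈ U, σ t v ∈ U) → U = ⊥ ∨ U = ⊤ := fun U hU => by
    rcases hWmin (U.map W.subtype) (Submodule.map_subtype_le _ _) (by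
      rintro t _ ⟨v, hv, rfl⟩
      exact ⟨_, hU t v hv, rfl⟩) with h | h
    · exact Or.inl (Submodule.map_injective_of_injective W.injective_subtype (by rw [h, Submodule.map_bot]))
    · exact Or.inr (Submodule.map_injective_of_injective W.injective_subtype
        (by rw [h, Submodule.map_subtype_top]))
  obtain ⟨-, hschur⟩ := HHLinear.span_eq_top_and_schur σ hirr
  have hμex : ∀ r : Q, ∃ c : K, r ∈ R → σ r = c • 1 := fun r => by
    by_cases hr : r ∈ R
    · obtain ⟨c, hc⟩ := hschur (σ r) fun t => LinearMap.ext fun v => Subtype.ext (hcommW r hr t v v.2)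
      exact ⟨c, fun _ => hc⟩
    · exact ⟨0, fun h => absurd h hr⟩
  choose μ hμ using hμex
  have hμW : ∀ r ∈ R, ∀ v ∈ W, τ r v = μ r • v := fun r hr v hv => by
    have := congrArg (fun G : Module.End K W => ((G ⟨v, hv⟩ : W) : V)) (hμ r hr)
    simpa [σ] using this
  have hμlf : ∀ s ∈ Z, μ s = lf s := fun s hs =>
    hvec _ _ (by rw [← hμW s (hZR hs) w₀ hw₀W, hlfv s hs w₀ hw₀W])
  have hθ1n : θ₁ ^ p ^ (n - j) = 1 := by rw [hθ₁, ← pow_mul, ← pow_add, Nat.add_sub_cancel' hjn, hθ]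
  obtain ⟨k, hkn, hka, hkdist, -⟩ := exists_orbit hp θ₁ hθ1n R hR1 μ
  set a := p ^ j * p ^ k with ha
  set e := n - (j + k) with he
  set h := p ^ e with hh
  set θ₂ : MulAut Q := θ ^ a with hθ₂
  set X₂ : Module.End K V := X ^ a with hX₂
  let U : Submodule K V :=
    { carrier := {v | ∀ r ∈ R, τ r v = μ r • v}
      add_mem' := fun {v w} hv hw r hr => by rw [map_add, hv r hr, hw r hr, smul_add]
      zero_mem' := fun r _ => by rw [map_zero, smul_zero]
      smul_mem' := fun c v hv r hr => by rw [map_smul, hv r hr, smul_comm] }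
  have hconj1 : ∀ t, X ^ p ^ j * τ t = τ (θ₁ t) * X ^ p ^ j := conj_pow hconj _
  have hconj2 : ∀ t, X₂ * τ t = τ (θ₂ t) * X₂ := conj_pow hconj _
  have hsum2 : ∀ v ∈ U, ∑ i ∈ Finset.range h, (X₂ ^ i) v = 0 := by
    intro v hv
    have h1 := hsum1 v fun s hs => by rw [hv s (hZR hs), hμlf s hs]
    rw [show n - j = k + e by omega, pow_add] at h1
    have h2 := grouping τ (X ^ p ^ j) θ₁ hconj1 R hR1 hR1' μ (p ^ k) h (Nat.one_le_pow _ _ hp.pos)
      hka hkdist v hv h1
    simpa only [hX₂, ha, ← pow_mul, mul_assoc] using h2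
  have hWU : W ≤ U := fun v hv r hr => hμW r hr v hv
  have he1 : 1 ≤ e := by
    by_contra hcon
    have h2 := hsum2 w₀ (hWU hw₀W)
    rw [hh, show e = 0 by omega, pow_zero, Finset.sum_range_one, pow_zero] at h2
    exact hw₀ h2
  have hR2 : ∀ t ∈ R, θ₂ t ∈ R := fun t ht => by
    rw [hθ₂, ha, pow_mul, ← hθ₁]
    induction p ^ k with
    | zero => simpa using ht
    | succ i ih => rw [pow_succ', MulAut.mul_apply]; exact hR1 _ ih
  have hμ2 : ∀ s ∈ R, μ (θ₂ s) = μ s := fun s hs => by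
    rw [hθ₂, ha, pow_mul, ← hθ₁]; exact hka s hs
  have hR2' : ∀ t, θ₂ t ∈ R → t ∈ R := by
    intro t
    rw [hθ₂, ha, pow_mul, ← hθ₁]
    induction p ^ k generalizing t with
    | zero => simp
    | succ i ih => intro ht; rw [pow_succ, MulAut.mul_apply] at ht; exact hR1' _ (ih _ ht)
  have hUX : ∀ v ∈ U, X₂ v ∈ U := by
    intro v hv r hr
    obtain ⟨r', rfl⟩ := θ₂.surjective r
    have h1 := congrArg (fun F : Module.End K V => F v) (hconj2 r')
    simp only [Module.End.mul_apply] at h1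
    rw [← h1, hv r' (hR2' r' hr), map_smul, hμ2 r' (hR2' r' hr)]
  have hUτ : ∀ t, ∀ v ∈ U, τ t v ∈ U := by
    intro t v hv r hr
    have h1 : τ (⁅r, t⁆ : Q) v = v := by
      rw [hv _ (hZR (hQZ r t)), hμlf _ (hQZ r t), hlf]
      simp only [dif_pos (hQZ r t)]
      rw [show lam ⟨⁅r, t⁆, hQZ r t⟩ = 1 by
        have := hr t
        rw [form_swap] at this
        exact inv_eq_one.1 (by simpa [form] using this)]
      simp
    rw [← Module.End.mul_apply, ← map_mul,
      show r * t = t * r * ⁅r, t⁆ by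
        rw [Subgroup.mem_center_iff.1 (hQZ r t) (t * r), commutatorElement_def]; group,
      map_mul, Module.End.mul_apply, h1, map_mul, Module.End.mul_apply, hv r hr, map_smul]
  let τU : Q →* Module.End K U :=
    { toFun := fun t => (τ t).restrict (hUτ t)
      map_one' := LinearMap.ext fun w => Subtype.ext (by simp)
      map_mul' := fun a b => LinearMap.ext fun w => Subtype.ext (by simp) }
  set XU : Module.End K U := X₂.restrict hUX with hXU
  have hXUk : ∀ (i : ℕ) (v : U), ((XU ^ i) v : V) = (X₂ ^ i) v := by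
    intro i
    induction i with
    | zero => intro v; rfl
    | succ i ih =>
      intro v
      rw [pow_succ', pow_succ' X₂, Module.End.mul_apply, Module.End.mul_apply, ← ih]
      rfl
  have hh2 : 2 ≤ h := le_trans hp.two_le (Nat.le_self_pow (by omega) p)
  have hhK : (h : K) ≠ 0 := by rw [hh, Nat.cast_pow]; exact pow_ne_zero _ hpK
  have hah : a * h = p ^ n := by rw [ha, hh, ← pow_add, ← pow_add]; congr 1; omega
  let ι : W →ₗ[K] U := Submodule.inclusion hWU
  have hlz' : ∃ w t : Q, form hQZ lam w t ≠ 1 := ⟨a₁, b₁, fun h1 => hlz (by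
    rw [show z₀ = ⟨⁅a₁, b₁⁆, hQZ a₁ b₁⟩ from Subtype.ext hz₀c]; exact h1)⟩
  have hRtop : R ≠ ⊤ := fun hR => by
    obtain ⟨w, t, hwt⟩ := hlz'
    exact hwt ((hR ▸ Subgroup.mem_top t : t ∈ R) w)
  have hscal : ∀ (t : Q) (c : K), σ t = c • 1 → t ∈ R := by
    intro t c hc w
    have hstep : ∀ v : W, σ t v = c • v := fun v => by
      rw [hc, LinearMap.smul_apply, Module.End.one_apply]
    have h1 : σ ⁅w, t⁆ = 1 := LinearMap.ext fun v => by
      rw [commutatorElement_def, map_mul, map_mul, map_mul, Module.End.mul_apply,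
        Module.End.mul_apply, Module.End.mul_apply, hstep]
      have hinv : c • σ t⁻¹ v = v := by
        rw [← hstep, ← Module.End.mul_apply, ← map_mul, mul_inv_cancel, map_one]; rfl
      rw [map_smul, ← map_smul, ← map_smul, hinv, ← Module.End.mul_apply, ← map_mul, mul_inv_cancel,
        map_one]
    have h2 : ((lam ⟨⁅w, t⁆, hQZ w t⟩ : Kˣ) : K) • w₀ = (1 : K) • w₀ := by
      rw [one_smul, ← hlW ⟨⁅w, t⁆, hQZ w t⟩ w₀ hw₀W]
      exact congrArg (fun G : Module.End K W => ((G ⟨w₀, hw₀W⟩ : W) : V)) h1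
    exact Units.ext (hvec _ _ h2)
  have hfree : ∀ t, t ∉ R → ∀ i, 0 < i → i < h → ((θ₂ ^ i) t) * t⁻¹ ∉ R := by
    intro t ht i hi hih hmem
    apply ht
    set m := a * i with hm
    have hgi : θ₂ ^ i = θ ^ m := by rw [hθ₂, ← pow_mul]
    obtain ⟨f, hf, hfm⟩ := (Nat.dvd_prime_pow hp).1 (Nat.gcd_dvd_right m (p ^ n))
    have hmlt : m < p ^ n := hah ▸ (Nat.mul_lt_mul_left (ha ▸ Nat.mul_pos (pow_pos hp.pos _) (pow_pos hp.pos _))).2 hih
    have hfn : f < n := lt_of_le_of_ne hf fun hfn => by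
      have : p ^ n ∣ m := hfn ▸ hfm ▸ Nat.gcd_dvd_left m (p ^ n)
      exact absurd (Nat.le_of_dvd (Nat.mul_pos (ha ▸ Nat.mul_pos (pow_pos hp.pos _) (pow_pos hp.pos _)) hi) this) (not_le.2 hmlt)
    obtain ⟨c, hc⟩ : ∃ c, (θ ^ m) ^ c = y := by
      have hmem1 : θ ^ p ^ f ∈ Subgroup.zpowers (θ ^ m) := by
        refine ⟨Nat.gcdA m (p ^ n), ?_⟩
        have hb := Nat.gcd_eq_gcd_ab m (p ^ n)
        rw [hfm] at hb
        calc (θ ^ m) ^ Nat.gcdA m (p ^ n)
            = θ ^ ((m : ℤ) * Nat.gcdA m (p ^ n)) *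
                (θ ^ ((p ^ n : ℕ) : ℤ)) ^ Nat.gcdB m (p ^ n) := by
              rw [zpow_natCast θ (p ^ n), hθ, one_zpow, mul_one, zpow_mul, zpow_natCast]
          _ = θ ^ ((p ^ f : ℕ) : ℤ) := by rw [← zpow_mul, ← zpow_add, ← hb]
          _ = θ ^ p ^ f := zpow_natCast θ _
      have hmem2 : y ∈ Subgroup.zpowers (θ ^ m) := by
        rw [hy, show p ^ (n - 1) = p ^ f * p ^ (n - 1 - f) by rw [← pow_add]; congr 1; omega, pow_mul θ (p ^ f)]
        exact Subgroup.pow_mem _ hmem1 _
      exact Submonoid.mem_powers_iff _ _ |>.1 (mem_powers_iff_mem_zpowers.2 hmem2)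
    have hR2i : ∀ (i : ℕ), ∀ s ∈ R, (θ₂ ^ i) s ∈ R := by
      intro i
      induction i with
      | zero => intro s hs; simpa using hs
      | succ i ih => intro s hs; rw [pow_succ', MulAut.mul_apply]; exact hR2 _ (ih s hs)
    have hall : ∀ c, ((θ₂ ^ i) ^ c) t * t⁻¹ ∈ R := by
      intro c
      induction c with
      | zero => simp
      | succ c ih =>
        rw [pow_succ', MulAut.mul_apply]
        rw [show (θ₂ ^ i) (((θ₂ ^ i) ^ c) t) * t⁻¹ =
          (θ₂ ^ i) (((θ₂ ^ i) ^ c) t * t⁻¹) * ((θ₂ ^ i) t * t⁻¹) by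
          rw [map_mul, map_inv]; group]
        exact R.mul_mem (hR2i i _ ih) hmem
    have hty : y t * t⁻¹ ∈ R := by
      have := hall c
      rwa [hgi, hc] at this
    have hRy : ∀ s ∈ R, y s ∈ R := fun s hs => by
      rw [← hc, ← hgi, ← pow_mul]; exact hR2i _ s hs
    haveI : R.Normal := ⟨fun s hs g => by
      rw [show g * s * g⁻¹ = ⁅g, s⁆ * s by rw [commutatorElement_def]; group]
      exact R.mul_mem (hZR (hQZ g s)) hs⟩
    have hyZ' : ∀ z ∈ Z, y z ∈ Z := fun z hz => hθk _ z hz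
    have hmap : Z.map y.toMonoidHom = Z := by
      refine Subgroup.eq_of_le_of_card_ge ?_ ?_
      · rintro _ ⟨z, hz, rfl⟩; exact hyZ' z hz
      · rw [Subgroup.card_map_of_injective y.injective]
    obtain ⟨yb, hyb⟩ : ∃ yb : MulAut (Q ⧸ Z), ∀ s : Q, yb (s : Q ⧸ Z) = ((y s : Q) : Q ⧸ Z) :=
      ⟨QuotientGroup.congr Z Z y hmap, fun _ => rfl⟩
    have hmem3 := mem_of_moved_mem yb (fun x hx => by
        obtain ⟨s, rfl⟩ := QuotientGroup.mk_surjective x
        rw [hyb] at hx
        refine (QuotientGroup.eq_one_iff s).2 (hyZ s ?_)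
        have h4 := (inferInstance : Z.Normal).conj_mem _ (QuotientGroup.eq.1 hx.symm) s
        rwa [mul_inv_cancel_left] at h4)
      (R.map (QuotientGroup.mk' Z))
      (by rintro _ ⟨s, hs, rfl⟩; exact ⟨y s, hRy s hs, (hyb s).symm⟩)
      (t := (t : Q ⧸ Z)) ⟨_, hty, by
        rw [QuotientGroup.coe_mk', QuotientGroup.mk_mul, QuotientGroup.mk_inv, hyb]⟩
    obtain ⟨s, hs, hst⟩ := hmem3
    have h5 := hZR (QuotientGroup.eq.1 hst)
    have := R.mul_mem hs h5
    rwa [mul_inv_cancel_left] at this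
  obtain ⟨ω, m, N, M, hωc, hω1, hN2, hNR, hNM, hm1, hm2, hm0⟩ :=
    CoprimeFree.inner_count hh2 hhK τU XU θ₂
      (by rw [hθ₂, ← pow_mul, hah, hθ])
      (LinearMap.ext fun v => Subtype.ext (by rw [hXUk, hX₂, ← pow_mul, hah, hX]; rfl))
      (fun t => LinearMap.ext fun v => Subtype.ext
        (congrArg (fun F : Module.End K V => F (v : V)) (hconj2 t)))
      σ hirr ι (fun h0 => hw₀ (by
        have := congrArg (fun G : W →ₗ[K] U => ((G ⟨w₀, hw₀W⟩ : U) : V)) h0
        simpa [ι] using this))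
      (fun t => rfl) R μ hμ hscal (fun w t => hZR (hQZ w t)) hR2 hμ2 hfree hRtop
  have hz : m 1 = 0 := hm0 (LinearMap.ext fun v => Subtype.ext (by
    rw [LinearMap.sum_apply, Submodule.coe_sum, LinearMap.zero_apply, Submodule.coe_zero]
    simp_rw [hXUk]
    exact hsum2 v v.2))
  have hres := pow_arith (ω.erase 1) m hp hp2 he1 (by rw [Finset.card_erase_add_one hω1, hωc])
    (by rw [Finset.sum_erase _ hz, hm1]) (by rw [Finset.sum_erase _ (by rw [hz]; rfl), hm2]) hNM hN2
  obtain ⟨d, -, hd⟩ := (Nat.dvd_prime_pow hq).1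
    (show N ∣ q ^ e₀ from he₀ ▸ (Dvd.intro _ hNR).trans (Subgroup.index_dvd_card _))
  have hd1 : 1 ≤ d := Nat.pos_of_ne_zero fun h => by rw [h, pow_zero] at hd; omega
  have hq2 : q = 2 := by
    by_contra hne
    have hodd := (hq.odd_of_ne_two hne).pow (n := d)
    rw [← hd] at hodd
    have hodd2 := (hp.odd_of_ne_two hp2).pow (n := e)
    rw [← hres] at hodd2
    rw [Nat.odd_iff] at hodd hodd2
    omega
  subst hq2
  have hsq : ∀ t : Q, t * t ∈ Z := by
    let T : Subgroup Q :=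
      { carrier := {t | t * t ∈ Z}
        one_mem' := by simp
        mul_mem' := fun {s t} hs ht => by
          change s * t * (s * t) ∈ Z
          rw [show s * t * (s * t) = s * ⁅t, s⁆ * s * (t * t) by rw [commutatorElement_def]; group,
            Subgroup.mem_center_iff.1 (hQZ t s) s, mul_assoc (⁅t, s⁆)]
          exact Z.mul_mem (Z.mul_mem (hQZ t s) hs) ht
        inv_mem' := fun {s} hs => by
          change s⁻¹ * s⁻¹ ∈ Z
          rw [← mul_inv_rev]; exact Z.inv_mem hs }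
    rcases hirrQ T (fun z hz => Z.mul_mem hz hz) (fun t ht => by
      change θ t * θ t ∈ Z
      rw [← map_mul]; exact hZθ _ ht) with h | h
    · exfalso
      obtain ⟨s, -, hs⟩ := SetLike.exists_of_lt (lt_top_iff_ne_top.2 hZtop)
      obtain ⟨c, hc⟩ := hQ s
      have : ∀ c, s ^ 2 ^ c ∈ Z → False := by
        intro c
        induction c with
        | zero => intro h0; exact hs (by simpa using h0)
        | succ c ih =>
          intro h0
          refine ih ?_
          rw [pow_succ, pow_mul, pow_two] at h0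
          exact h ▸ (show s ^ 2 ^ c ∈ T from h0)
      exact this c (by rw [hc]; exact Z.one_mem)
    · exact fun t => (h ▸ Subgroup.mem_top t : t ∈ T)
  refine forms_false hp hp2 (show e ≤ n by omega) he1 hd1 (by omega) θ hθ hfpf hQZ hsq hirrQ
    ⟨t₀, fun hmem => ht₀ (hdelta t₀ (hsmall Z hZtop hZθ _ hmem))⟩ lam ?_ ?_ hRtop
  · intro c hc
    have hca : p ^ (n - e) = a := by rw [ha, ← pow_add]; congr 1; omega
    have h1 := hμlf _ hc
    have h2 := hμ2 _ (hZR c.2)
    rw [hθ₂, ← hca, h1, hμlf _ c.2, hlf] at h2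
    have hcZ : (c : Q) ∈ Z := c.2
    have hcZ' : (θ ^ p ^ (n - e)) (c : Q) ∈ Z := hc
    simp only [dif_pos hcZ, dif_pos hcZ'] at h2
    exact Units.ext h2
  · rw [← hNR, hd, ← pow_add, two_mul]

/-- The `p ^ (n - 1)`-st power of a fixed point free operator acts trivially. -/
theorem trivial_top_power (hp : p.Prime) (hp2 : p ≠ 2) (hq : q.Prime) (hqp : q ≠ p) (hn : 1 ≤ n)
    (hqK : (q : K) ≠ 0) (hpK : (p : K) ≠ 0) :
    ∀ (N : ℕ) {Q : Type u} [Group Q] [Finite Q], Nat.card Q ≤ N → IsPGroup q Q → ∀ (θ : MulAut Q),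
      θ ^ p ^ n = 1 → (∀ t, θ t = t → t = 1) → ∀ (τ : Q →* Module.End K V) (X : Module.End K V),
      X ^ p ^ n = 1 → (∑ i ∈ Finset.range (p ^ n), X ^ i = 0) →
      (∀ t, X * τ t = τ (θ t) * X) → ∀ t, τ ((θ ^ p ^ (n - 1)) t) = τ t := by
  classical
  intro N
  induction N with
  | zero =>
    intro Q _ _ hc
    exact absurd hc (not_le.2 Nat.card_pos)
  | succ N ih =>
    intro Q _ _ hc hQ θ hθ hfpf τ X hX hsum hconj
    haveI := Fact.mk hq
    by_cases hker : τ.ker = ⊥
    · have hτ : Function.Injective τ := (MonoidHom.ker_eq_bot_iff τ).1 hker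
      intro t
      refine congrArg τ (faithful_case hp hp2 hq hqp hn hqK hpK hQ θ hθ hfpf τ hτ X hX hsum hconj
        (fun D hD hinv s hs => ?_) t)
      have hbij : Function.Bijective (fun s : D => (⟨θ s, hinv s s.2⟩ : D)) :=
        Finite.injective_iff_bijective.1 fun a b h => Subtype.ext (θ.injective (congrArg Subtype.val h))
      let θD : MulAut D :=
        MulEquiv.ofBijective ((θ.toMonoidHom.comp D.subtype).codRestrict D fun s => hinv s s.2) hbij
      have hθDk : ∀ (k : ℕ) (s : D), (((θD ^ k) s : D) : Q) = (θ ^ k) s := by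
        intro k
        induction k with
        | zero => simp
        | succ k ihk =>
          intro s
          rw [pow_succ', MulAut.mul_apply, pow_succ', MulAut.mul_apply, ← ihk]
          rfl
      have hlt : Nat.card D < Nat.card Q :=
        lt_of_le_of_ne D.card_le_card_group fun h => hD (Subgroup.eq_top_of_card_eq D h)
      have := ih (Q := D) (by omega) (hQ.to_subgroup D) θD
        (MulEquiv.ext fun s => Subtype.ext (by rw [hθDk, hθ]; rfl))
        (fun s hs' => Subtype.ext (hfpf _ (congrArg Subtype.val hs')))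
        (τ.comp D.subtype) X hX hsum (fun s => hconj s) ⟨s, hs⟩
      have h2 := hτ this
      exact (hθDk _ _).symm.trans h2
    · have hinv : ∀ t ∈ τ.ker, θ t ∈ τ.ker := by
        intro t ht
        rw [MonoidHom.mem_ker] at ht ⊢
        have h := hconj t
        rw [ht, mul_one] at h
        have hX' : X * X ^ (p ^ n - 1) = 1 := by
          rw [← pow_succ', Nat.sub_add_cancel (Nat.one_le_pow _ _ hp.pos), hX]
        have := congrArg (fun F => F * X ^ (p ^ n - 1)) h
        simp only [mul_assoc, hX', mul_one] at this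
        exact this.symm
      have hmap : τ.ker.map θ.toMonoidHom = τ.ker := by
        refine Subgroup.eq_of_le_of_card_ge ?_ ?_
        · rintro _ ⟨z, hz, rfl⟩; exact hinv z hz
        · rw [Subgroup.card_map_of_injective θ.injective]
      obtain ⟨θb, hθb⟩ : ∃ θb : MulAut (Q ⧸ τ.ker), ∀ s : Q, θb (s : Q ⧸ τ.ker) = ((θ s : Q) : Q ⧸ τ.ker) :=
        ⟨QuotientGroup.congr τ.ker τ.ker θ hmap, fun _ => rfl⟩
      have hθbk : ∀ (k : ℕ) (s : Q), (θb ^ k) (s : Q ⧸ τ.ker) = (((θ ^ k) s : Q) : Q ⧸ τ.ker) := by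
        intro k
        induction k with
        | zero => simp
        | succ k ihk => intro s; rw [pow_succ', MulAut.mul_apply, ihk, hθb, pow_succ', MulAut.mul_apply]
      have hlt : Nat.card (Q ⧸ τ.ker) < Nat.card Q := by
        rw [← Subgroup.index, ← τ.ker.index_mul_card]
        have h2 : 1 < Nat.card τ.ker := by
          rw [Nat.one_lt_iff_ne_zero_and_ne_one]
          exact ⟨Nat.card_pos.ne', fun h => hker (Subgroup.card_eq_one.1 h)⟩
        exact lt_mul_of_one_lt_right (Nat.pos_of_ne_zero Subgroup.index_ne_zero_of_finite) h2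
      intro t
      have := ih (Q := Q ⧸ τ.ker) (by omega) (hQ.to_quotient _) θb
        (MulEquiv.ext fun s => by
          obtain ⟨s, rfl⟩ := QuotientGroup.mk_surjective s
          rw [hθbk, hθ]; rfl)
        (fun x hx => by
          obtain ⟨s, rfl⟩ := QuotientGroup.mk_surjective x
          rw [hθb] at hx
          refine (QuotientGroup.eq_one_iff s).2 (mem_of_moved_mem θ hfpf τ.ker hinv ?_)
          have h4 := (inferInstance : τ.ker.Normal).conj_mem _ (QuotientGroup.eq.1 hx.symm) s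
          rwa [mul_inv_cancel_left] at h4)
        (QuotientGroup.lift τ.ker τ le_rfl) X hX hsum
        (fun x => by
          obtain ⟨s, rfl⟩ := QuotientGroup.mk_surjective x
          rw [hθb]
          exact hconj s) (t : Q ⧸ τ.ker)
      rw [hθbk] at this
      exact this

end Cfsg.Agent.ShultGross
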